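import Groth.Agent.CdP50.Dev
import Groth.Agent.Unr55.Et.GaZariski
import Groth.Agent.Unr55.Et.ArtinSchreierEt
import Groth.Agent.Coh69.AffinePush
import Groth.Agent.QCqs72.Basic
import Groth.Agent.Var76.SuppVanish
import Groth.Agent.Crv77.Degree

/-!
In characteristic `p` the constant sheaf `ℤ/p` has no cohomology above one more than the coherent
cohomological dimension.
-/

set_option autoImplicit false
set_option backward.isDefEq.respectTransparency.types false
universe u

open CategoryTheory CategoryTheory.Limits AlgebraicGeometry Opposite CategoryTheory.Abelian TopologicalSpace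

namespace Groth.Agent.CdP50

variable {p : ℕ} [Fact p.Prime]

theorem natCast_eq_zero {Y : Scheme.{u}} (a : Y ⟶ Spec (CommRingCat.of (ULift.{u} (ZMod p)))) :
    (p : Γ(Y, ⊤)) = 0 := by
  let φ : ULift.{u} (ZMod p) →+* Γ(Y, ⊤) :=
    ((Scheme.ΓSpecIso (CommRingCat.of (ULift.{u} (ZMod p)))).inv ≫ a.appTop).hom
  rw [← map_natCast φ p, show (p : ULift.{u} (ZMod p)) = 0 from ULift.ext _ _ (by simp), map_zero]

/-- Artin–Schreier: cohomology of `ℤ/p` is squeezed between that of the structure sheaf. -/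
theorem subsingleton_H_const {Y : Scheme.{u}} (hp : (p : Γ(Y, ⊤)) = 0) {q : ℕ}
    (h0 : Subsingleton (Coh.HH Y (Coh.structureModule Y) q))
    (h1 : Subsingleton (Coh.HH Y (Coh.structureModule Y) (q + 1))) :
    Subsingleton (EtCoh.H Y (EtCoh.const Y (ZMod p)) (q + 1)) := by
  obtain ⟨e0⟩ := Unr55.GaZar.H_Ga_equiv Y q
  obtain ⟨e1⟩ := Unr55.GaZar.H_Ga_equiv Y (q + 1)
  have hs0 : Subsingleton (EtCoh.H Y (EtCoh.Ga Y) q) := e0.toEquiv.subsingleton
  have hs1 : Subsingleton (EtCoh.H Y (EtCoh.Ga Y) (q + 1)) := e1.toEquiv.subsingleton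
  refine subsingleton_of_forall_eq 0 fun x => ?_
  obtain ⟨y, rfl⟩ := Ext.covariant_sequence_exact₁ _ (Unr55.EtAS.shortExact_seq hp) x (hs1.elim _ _) rfl
  rw [hs0.elim y 0]
  exact Ext.zero_comp _ _ _ _ _

/-- Vanishing of the constant sheaf on finite schemes from the coherent cohomological dimension. -/
theorem constVan_of_qcoh {X : Scheme.{u}} (a : X ⟶ Spec (CommRingCat.of (ULift.{u} (ZMod p)))) (d : ℕ)
    (hqc : ∀ M : X.Modules, Coh.IsQCoh M → ∀ q : ℕ, d < q → Subsingleton (Coh.HH X M q)) :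
    ConstVan p X (d + 1) := by
  intro Y h hh q hq
  obtain ⟨q, rfl⟩ : ∃ m, q = m + 1 := ⟨q - 1, by omega⟩
  have hvan : ∀ m, d < m → Subsingleton (Coh.HH Y (Coh.structureModule Y) m) := fun m hm => by
    have : (Coh.structureModule Y).IsQuasicoherent := Crv77.isCoh_structureModule.1
    obtain ⟨e⟩ := Coh69.nonempty_hh_push h (Coh.structureModule Y) m
    have := hqc _ (QCqs72.isQuasicoherent_pushforward (M := Coh.structureModule Y) h) m hm
    exact e.toEquiv.subsingleton
  exact subsingleton_H_const (natCast_eq_zero (h ≫ a)) (hvan q (by omega)) (hvan (q + 1) (by omega))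

/-- Cohomology of quasi-coherent modules vanishes above the dimension. -/
theorem qcoh_van_of_dim {X : Scheme.{u}} [NoetherianSpace X] {n : ℕ} (hn : topologicalKrullDim X ≤ n)
    (M : X.Modules) (q : ℕ) (hq : n < q) : Subsingleton (Coh.HH X M q) :=
  Var76.subsingleton_HH_of_support M isClosed_univ (fun x hx => absurd (Set.mem_univ x) hx)
    ((Topology.IsInducing.subtypeVal.topologicalKrullDim_le).trans hn) q hq

end Groth.Agent.CdP50
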