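import Groth.Agent.CdP50.PointDev
import Groth.Agent.GalCoh84.PushInt
import Groth.Agent.S0539
import Groth.Agent.Cyc90.FiniteTypeDelta
/-!
Cohomological dimension in algebraic extensions and along specializations.
-/

set_option autoImplicit false
set_option backward.isDefEq.respectTransparency.types false
universe u
open CategoryTheory CategoryTheory.Limits AlgebraicGeometry Opposite CategoryTheory.Abelian
open Groth.Agent.Unr55.EtSh Groth.Agent.EtCore45
open scoped TensorProduct
namespace Groth.Agent.CdP50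
theorem cohDimLEAt_of_algebraic {ℓ d : ℕ} (hℓ : ℓ.Prime) {k : Type u} [Field k] (K : Type u) [Field K] [Algebra k K]
    [Algebra.IsAlgebraic k K] (h : Dix.CohDimLEAt (Spec (CommRingCat.of k)) ℓ d) :
    Dix.CohDimLEAt (Spec (CommRingCat.of K)) ℓ d := fun F hF q hq => by
  let f := Spec.map (CommRingCat.ofHom (algebraMap k K))
  have : IsIntegralHom f := IsIntegralHom.SpecMap_iff.2 (algebraMap_isIntegral_iff.2 inferInstance)
  have := preservesFiniteLimits_pull f
  have hb : Function.Bijective (EtLim.HofPush f F q) :=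
    EtCore45.adjTransfer_bijective (EtCoh.pullPushAdj f) (EtCore.pullConst f ℤ).inv q F (GalCoh84.isZero_Rpush f F)
  have := h _ (primary_of_isLTorsion (Depth22.isLTorsion_push f (isLTorsion_of_primary hℓ hF))) q hq
  exact hb.2.subsingleton
theorem isSepClosed_residueField_field (k : Type u) [Field k] [IsSepClosed k] :
    IsSepClosed (IsLocalRing.ResidueField k) :=
  IsSepClosed.of_exists_root _ fun p hp hirr hsep => by
    let r : k ≃+* IsLocalRing.ResidueField k :=
      RingEquiv.ofBijective (IsLocalRing.residue k) ⟨(IsLocalRing.residue k).injective, IsLocalRing.residue_surjective⟩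
    obtain ⟨z, hz⟩ := IsSepClosed.exists_root (p.map r.symm.toRingHom) (by
      rw [Polynomial.degree_map]; exact (Polynomial.degree_pos_of_irreducible hirr).ne') hsep.map
    refine ⟨r z, r.symm.injective ?_⟩
    show r.symm.toRingHom (p.eval (r z)) = r.symm 0
    rw [map_zero, ← Polynomial.eval_map_apply]
    simpa using hz

theorem cohDimLEAt_sepClosed (k : Type u) [Field k] [IsSepClosed k] (ℓ : ℕ) :
    Dix.CohDimLEAt (Spec (CommRingCat.of k)) ℓ 0 := fun F _ q hq => by
  have := isSepClosed_residueField_field k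
  exact Unr55.EtSh.H_subsingleton k F q hq

theorem subsingleton_of_killed {X : Scheme.{u}} (q : ℕ) : ∀ (n : ℕ), 0 < n →
    (∀ ℓ : ℕ, ℓ.Prime → ℓ ∣ n → ∀ G : EtCoh.Ab X, ℓ • 𝟙 G = 0 → Subsingleton (EtCoh.H X G q)) →
    ∀ F : EtCoh.Ab X, n • 𝟙 F = 0 → Subsingleton (EtCoh.H X F q) := by
  intro n
  induction n using Nat.strong_induction_on with
  | _ n IH =>
  intro hn h F hF
  rcases eq_or_lt_of_le (show 1 ≤ n from hn) with h1 | h1
  · subst h1
    exact subsingleton_of_isZero ((IsZero.iff_id_eq_zero F).2 (by simpa using hF)) q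
  obtain ⟨ℓ, hℓ, m, rfl⟩ := Nat.exists_prime_and_dvd h1.ne'
  let g : F ⟶ F := ℓ • 𝟙 F
  have hm : 0 < m := Nat.pos_of_mul_pos_left hn
  have hK : ℓ • 𝟙 (kernel g) = 0 := by
    rw [← cancel_mono (kernel.ι g), Preadditive.nsmul_comp, Category.id_comp, zero_comp]
    have := kernel.condition g
    rwa [Preadditive.comp_nsmul, Category.comp_id] at this
  have hQ : m • 𝟙 (Abelian.coimage g) = 0 := by
    rw [← cancel_mono (Abelian.factorThruCoimage g), ← cancel_epi (Abelian.coimage.π g)]
    simp only [Preadditive.nsmul_comp, Preadditive.comp_nsmul, Category.id_comp, zero_comp, comp_zero, Abelian.coimage.fac]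
    rw [← mul_smul, mul_comm]
    exact hF
  exact subsingleton_mid
    (show (ShortComplex.mk (kernel.ι g) (cokernel.π (kernel.ι g)) (cokernel.condition _)).ShortExact from
      { exact := ShortComplex.exact_of_g_is_cokernel _ (cokernelIsCokernel _) })
    (h ℓ hℓ (Dvd.intro _ rfl) _ hK)
    (IH m (lt_mul_of_one_lt_left hm hℓ.one_lt) hm (fun p hp hpm => h p hp (hpm.trans (Dvd.intro_left _ rfl))) _ hQ)
/-- The fields of the strict localization at `y` over `x` are algebraic over the residue field of `x`. -/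
theorem exists_algebraic_frac {X : Scheme.{u}} [IsLocallyNoetherian X] {x y : X} (hxy : x ⤳ y)
    (R : Type u) [CommRing R] [IsLocalRing R] [Algebra (X.presheaf.stalk y) R]
    [IsLocalHom (algebraMap (X.presheaf.stalk y) R)] [Hensel.IsStrictHenselization (X.presheaf.stalk y) R]
    (P : Ideal R) (hP : P ∈ ((RingHom.ker (Cyc.specMap y x hxy)).map (algebraMap (X.presheaf.stalk y) R)).minimalPrimes) :
    haveI := hP.1.1
    ∃ _ : Algebra (X.residueField x) (FractionRing (R ⧸ P)),
      Algebra.IsAlgebraic (X.residueField x) (FractionRing (R ⧸ P)) ∧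
      ∀ a : X.presheaf.stalk y, algebraMap (X.residueField x) (FractionRing (R ⧸ P)) (Cyc.specMap y x hxy a) =
        algebraMap (R ⧸ P) (FractionRing (R ⧸ P)) (Ideal.Quotient.mk P (algebraMap (X.presheaf.stalk y) R a)) := by
  have := hP.1.1
  let A := X.presheaf.stalk y
  let px := RingHom.ker (Cyc.specMap y x hxy)
  have : px.IsPrime := RingHom.ker_isPrime _
  have hover : P.comap (algebraMap A R) = px := by
    have hle : px ≤ P.comap (algebraMap A R) := Ideal.map_le_iff_le_comap.1 hP.1.2
    have : P.LiesOver (P.comap (algebraMap A R)) := ⟨rfl⟩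
    have : Module.FaithfullyFlat A R := S0539.result A R
    obtain ⟨Q, hQP, hQ, hQo⟩ := P.exists_ideal_le_liesOver_of_le (p := px) (q := P.comap (algebraMap A R)) hle
    have : P ≤ Q := hP.2 ⟨hQ, Ideal.map_le_iff_le_comap.2 hQo.over.le⟩ hQP
    exact le_antisymm ((Ideal.comap_mono this).trans hQo.over.ge) hle
  let L := FractionRing (R ⧸ P)
  let θ : R →+* L := (algebraMap (R ⧸ P) L).comp (Ideal.Quotient.mk P)
  have hθ : ∀ a : A, θ (algebraMap A R a) = 0 ↔ a ∈ px := fun a => by
    rw [← hover, Ideal.mem_comap, ← Ideal.Quotient.eq_zero_iff_mem]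
    exact map_eq_zero_iff _ (IsFractionRing.injective (R ⧸ P) L)
  let ψ : Cyc.LocQuot y x hxy →+* L :=
    Ideal.Quotient.lift px (θ.comp (algebraMap A R)) fun a ha => (hθ a).2 ha
  have hψ : Function.Injective ψ := RingHom.lift_injective_of_ker_le_ideal _ _ fun a ha => (hθ a).1 ha
  let j : X.residueField x →+* L := IsFractionRing.lift hψ
  have hj : ∀ a : A, j (Cyc.specMap y x hxy a) = θ (algebraMap A R a) := fun a =>
    IsFractionRing.lift_algebraMap hψ (Ideal.Quotient.mk px a)
  let jAlg : Algebra (X.residueField x) L := j.toAlgebra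
  refine ⟨jAlg, ?_, hj⟩
  -- `κ(x)` as the residue field of `px`
  have hker : ∀ a ∈ px.primeCompl, IsUnit (Cyc.specMap y x hxy a) := fun a ha => isUnit_iff_ne_zero.2 ha
  let i : px.ResidueField →+* X.residueField x :=
    Ideal.ResidueField.lift px (Cyc.specMap y x hxy) le_rfl hker
  obtain ⟨n, K, _, _, hsep, ⟨eK⟩⟩ := S2817.result A R px
  let : Algebra px.ResidueField L := (j.comp i).toAlgebra
  have hAL : ∀ a : A, algebraMap A L a = θ (algebraMap A R a) := fun a =>
    (IsScalarTower.algebraMap_apply A (R ⧸ P) L a)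
  have : IsScalarTower A px.ResidueField L := IsScalarTower.of_algebraMap_eq (R := A) (S := px.ResidueField) (A := L) fun a => by
    rw [hAL]
    change _ = j (i (algebraMap A px.ResidueField a))
    rw [Ideal.ResidueField.lift_algebraMap, hj]
  let θA : R →ₐ[A] L := { θ with commutes' := fun a => (hAL a).symm }
  let Φ : px.ResidueField ⊗[A] R →ₐ[px.ResidueField] L :=
    Algebra.TensorProduct.lift (Algebra.ofId px.ResidueField L) θA fun _ _ => mul_comm _ _
  have hint : ∀ r : R, IsIntegral (X.residueField x) (θ r) := fun r => by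
    have h1 : IsIntegral px.ResidueField ((1 : px.ResidueField) ⊗ₜ[A] r) := by
      have : ∀ m, Algebra.IsAlgebraic px.ResidueField (K m) := fun m => inferInstance
      refine (isIntegral_algEquiv eK).1 ?_
      have hm : ∀ m, IsIntegral px.ResidueField (eK ((1 : px.ResidueField) ⊗ₜ[A] r) m) := fun m =>
        Algebra.IsIntegral.isIntegral _
      refine ⟨∏ m, minpoly px.ResidueField (eK ((1 : px.ResidueField) ⊗ₜ[A] r) m),
        Polynomial.monic_prod_of_monic _ _ fun m _ => minpoly.monic (hm m), ?_⟩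
      rw [← Polynomial.aeval_def]
      ext m
      rw [← Pi.evalAlgHom_apply (R := px.ResidueField) (A := K) m (Polynomial.aeval _ _), ← Polynomial.aeval_algHom_apply,
        map_prod]
      exact Finset.prod_eq_zero (Finset.mem_univ m) (minpoly.aeval _ _)
    have h2 : IsIntegral px.ResidueField (θ r) := by
      have := h1.map Φ
      rwa [show Φ ((1 : px.ResidueField) ⊗ₜ[A] r) = θ r by simp [Φ, θA]] at this
    obtain ⟨p, hp, hp0⟩ := h2
    exact ⟨p.map i, hp.map i, (Polynomial.eval₂_map i j (θ r)).trans hp0⟩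
  refine ⟨fun z => ?_⟩
  obtain ⟨a, b, -, rfl⟩ := IsFractionRing.div_surjective (A := R ⧸ P) z
  obtain ⟨a, rfl⟩ := Ideal.Quotient.mk_surjective a
  obtain ⟨b, rfl⟩ := Ideal.Quotient.mk_surjective b
  rw [div_eq_mul_inv]
  exact (hint a).isAlgebraic.mul (hint b).isAlgebraic.inv
end Groth.Agent.CdP50
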