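import Groth.Agent.CdP50.FiniteTypeField
import Groth.Agent.GalCoh84.CdTorsion

/-!
Cohomological dimension from that at every prime.
-/

set_option autoImplicit false
set_option backward.isDefEq.respectTransparency.types false
universe u

open CategoryTheory CategoryTheory.Limits AlgebraicGeometry Opposite TopologicalSpace

namespace Groth.Agent.CdP50

theorem isPrimaryTorsion_of_killed {X : Scheme.{u}} {G : EtCoh.Ab X} {ℓ : ℕ} (hG : ℓ • 𝟙 G = 0) :
    Dix.IsPrimaryTorsion ℓ G := fun U s v => ⟨U, 𝟙 _, ⟨v, rfl⟩, 1, by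
  rw [pow_one]
  have := GalCoh84.sect_nsmul_eq_zero hG U s
  rwa [op_id, G.obj.map_id]⟩

/-- Torsion sheaves have no cohomology in a degree where the sheaves killed by a prime have none. -/
theorem subsingleton_H_of_torsion {X : Scheme.{u}} [IsNoetherian X] {q : ℕ}
    (h : ∀ ℓ : ℕ, ℓ.Prime → ∀ G : EtCoh.Ab X, Dix.IsPrimaryTorsion ℓ G → EtPBC.supp G ⊆ Set.univ →
      Subsingleton (EtCoh.H X G q)) (F : EtCoh.Ab X) (hF : EtCoh.IsTorsion F) :
    Subsingleton (EtCoh.H X F q) := by
  have hF' : EtAcyc.IsLTorsion Set.univ F := fun U s x => by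
    obtain ⟨V, g, hv, ho⟩ := hF U s x
    obtain ⟨m, hm, hs⟩ := isOfFinAddOrder_iff_nsmul_eq_zero.1 ho
    exact ⟨V, g, m, hv, ⟨hm, fun p _ _ => Set.mem_univ p⟩, hs⟩
  refine subsingleton_H_of_constructible hF' q fun G hGc _ _ => ?_
  obtain ⟨N, hN, hk⟩ := Cons51.exists_killedBy hGc
  exact subsingleton_of_killed q N hN (fun ℓ hℓ _ G' hG' => h ℓ hℓ G' (isPrimaryTorsion_of_killed hG') (Set.subset_univ _)) G
    (GalCoh84.nsmul_id_eq_zero_of_killedBy hk)

theorem exists_dim_le {k : Type u} [Field k] {X : Scheme.{u}} (f : X ⟶ Spec (CommRingCat.of k))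
    [LocallyOfFiniteType f] [QuasiCompact f] : ∃ n : ℕ, topologicalKrullDim X ≤ n := by
  classical
  have : IsLocallyNoetherian X := LocallyOfFiniteType.isLocallyNoetherian f
  have : CompactSpace X := QuasiCompact.compactSpace_of_compactSpace f
  have : IsNoetherian X := {}
  have hfin : (irreducibleComponents X).Finite := NoetherianSpace.finite_irreducibleComponents
  let g : Set X → ℕ := fun Y => if h : IsIrreducible Y then WC97.tdegN f h.genericPoint else 0
  refine ⟨hfin.toFinset.sup g, ?_⟩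
  rw [TopDim50.dim_eq_iSup_irreducibleComponents]
  refine iSup₂_le fun Y hY => ?_
  have hirr : IsIrreducible Y := hY.1
  have hc : closure ({hirr.genericPoint} : Set X) = Y :=
    hirr.isGenericPoint_genericPoint_closure.trans (isClosed_of_mem_irreducibleComponents Y hY).closure_eq
  conv_lhs => rw [← hc]
  rw [WC97.topologicalKrullDim_closure f hirr.genericPoint]
  have hg : g Y = WC97.tdegN f hirr.genericPoint := dif_pos hirr
  rw [← hg]
  exact_mod_cast Finset.le_sup (f := g) (hfin.mem_toFinset.2 hY)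

theorem cohDimLE_of_forall_prime {X : Scheme.{u}} [IsNoetherian X] {d : ℕ}
    (h : ∀ ℓ : ℕ, ℓ.Prime → Dix.CohDimLEAt X ℓ d) : EtCoh.CohDimLE X d := fun F hF q hq =>
  subsingleton_H_of_torsion (fun ℓ hℓ G hG _ => h ℓ hℓ G hG q hq) F hF

theorem cohDimLEAt_of_cohDimLE {X : Scheme.{u}} {d : ℕ} (h : EtCoh.CohDimLE X d) {ℓ : ℕ} (hℓ : ℓ.Prime) :
    Dix.CohDimLEAt X ℓ d := fun F hF q hq => h F (isTorsion_of_primary hℓ hF) q hq

end Groth.Agent.CdP50
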