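import Groth.Agent.EtCore45.ExtZeroOpen
import Groth.Agent.EtCore45.CompEtale
import Groth.Agent.Depth22.TopDegree
import Groth.Agent.Cons51.SectFinEt
import Groth.Agent.Cons51.Present

/-!
Elementary facts on extension by zero, multiplication by integers and long exact sequences.
-/

set_option autoImplicit false
set_option backward.isDefEq.respectTransparency.types false
universe u

open CategoryTheory CategoryTheory.Limits AlgebraicGeometry Opposite CategoryTheory.Abelian
open Groth.Agent.Unr55.EtSh Groth.Agent.EtCore45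

namespace Groth.Agent.CdP50

variable {U X : Scheme.{u}}

theorem extZero_exact (j : U ⟶ X) [Etale j] :
    PreservesFiniteLimits (EtShriek.extZero j) ∧ PreservesFiniteColimits (EtShriek.extZero j) ∧
      (EtShriek.extZero j).Additive := by
  have h1 : PreservesColimitsOfSize.{0, 0} (EtShriek.extZero j) :=
    (EtShriek.extZeroAdj j).leftAdjoint_preservesColimits
  have := preservesBinaryBiproducts_of_preservesBinaryCoproducts (EtShriek.extZero j)
  exact ⟨preservesFiniteLimits_extZero j, PreservesColimitsOfSize.preservesFiniteColimits _,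
    Functor.additive_of_preservesBinaryBiproducts _⟩

theorem shortExact_extZero (j : U ⟶ X) [Etale j] [(EtShriek.extZero j).Additive] {S : ShortComplex (EtCoh.Ab U)}
    (hS : S.ShortExact) : (S.map (EtShriek.extZero j)).ShortExact := by
  obtain ⟨h1, h2, -⟩ := extZero_exact j
  exact hS.map_of_exact _

theorem nsmul_map {C D : Type*} [Category C] [Category D] [Preadditive C] [Preadditive D] (F : C ⥤ D)
    [F.Additive] {G : C} {n : ℕ} (h : n • 𝟙 G = 0) : n • 𝟙 (F.obj G) = 0 := by
  rw [← F.map_id, ← F.map_nsmul, h, F.map_zero]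

theorem nsmul_of_iso {C : Type*} [Category C] [Preadditive C] {A B : C} (e : A ≅ B) {n : ℕ}
    (h : n • 𝟙 A = 0) : n • 𝟙 B = 0 := by
  rw [← e.inv_hom_id, ← Category.id_comp e.hom, ← Preadditive.comp_nsmul, ← Preadditive.nsmul_comp, h,
    zero_comp, comp_zero]

theorem nsmul_of_mono {C : Type*} [Category C] [Preadditive C] {A B : C} (i : A ⟶ B) [Mono i] {n : ℕ}
    (h : n • 𝟙 B = 0) : n • 𝟙 A = 0 := by
  rw [← cancel_mono i, zero_comp, Preadditive.nsmul_comp, Category.id_comp, ← Category.comp_id i,
    ← Preadditive.comp_nsmul, h, comp_zero]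

theorem nsmul_of_epi {C : Type*} [Category C] [Preadditive C] {A B : C} (π : A ⟶ B) [Epi π] {n : ℕ}
    (h : n • 𝟙 A = 0) : n • 𝟙 B = 0 := by
  rw [← cancel_epi π, comp_zero, Preadditive.comp_nsmul, Category.comp_id, ← Category.id_comp π,
    ← Preadditive.nsmul_comp, h, zero_comp]

/-- The middle term of a short exact sequence has no cohomology if the outer ones have none. -/
theorem subsingleton_mid {S : ShortComplex (EtCoh.Ab X)} (hS : S.ShortExact) {q : ℕ}
    (h1 : Subsingleton (EtCoh.H X S.X₁ q)) (h3 : Subsingleton (EtCoh.H X S.X₃ q)) :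
    Subsingleton (EtCoh.H X S.X₂ q) :=
  subsingleton_of_forall_eq 0 fun x => by
    obtain ⟨y, rfl⟩ := Ext.covariant_sequence_exact₂ _ hS x (h3.elim _ _)
    rw [h1.elim y 0]
    exact Ext.zero_comp _ _ _ _ _

theorem subsingleton_of_isZero {F : EtCoh.Ab X} (h : IsZero F) (q : ℕ) : Subsingleton (EtCoh.H X F q) := by
  refine subsingleton_of_forall_eq 0 fun x => ?_
  rw [← Ext.comp_mk₀_id x, h.eq_of_src (𝟙 F) 0, Ext.mk₀_zero]
  exact Ext.comp_zero _ _ _ _ _

theorem isZero_of_isEmpty [IsEmpty X] (F : EtCoh.Ab X) : IsZero F := by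
  refine EtCore45.isZero_of_stalks F fun K _ _ ξ => ?_
  exact isEmptyElim (ξ (default : Spec (CommRingCat.of K)))

/-- A morphism which is split mono on a sheaf induces injections on cohomology. -/
theorem subsingleton_of_retract {F G : EtCoh.Ab X} (s : F ⟶ G) (r : G ⟶ F) (h : s ≫ r = 𝟙 _) {q : ℕ}
    (hG : Subsingleton (EtCoh.H X G q)) : Subsingleton (EtCoh.H X F q) := by
  refine subsingleton_of_forall_eq 0 fun x => ?_
  have e : x = (x.comp (Ext.mk₀ s) (add_zero q)).comp (Ext.mk₀ r) (add_zero q) := by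
    rw [Ext.comp_assoc_of_second_deg_zero, Ext.mk₀_comp_mk₀, h, Ext.comp_mk₀_id]
  rw [e, hG.elim (x.comp (Ext.mk₀ s) (add_zero q)) 0]
  exact Ext.zero_comp _ _ _ _ _

end Groth.Agent.CdP50
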