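import Groth.Agent.CdP50.PointDev
import Groth.Agent.Cyc90.CMDim
import Groth.Agent.S0539
import Groth.Agent.S0540
import Groth.Agent.S0541

/-!
Dimensions of the local rings at a specialization and in the strict localization.
-/

set_option autoImplicit false
set_option backward.isDefEq.respectTransparency.types false
universe u

open CategoryTheory AlgebraicGeometry TopologicalSpace

namespace Groth.Agent.CdP50

theorem exists_dim_stalk (X : Scheme.{u}) [IsLocallyNoetherian X] (x : X) :
    ∃ c : ℕ, ringKrullDim (X.presheaf.stalk x) = c := by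
  have h := IsLocalRing.maximalIdeal_height_eq_ringKrullDim (R := X.presheaf.stalk x)
  obtain ⟨c, hc⟩ := ENat.ne_top_iff_exists.1
    (Ideal.height_ne_top (Ideal.IsMaximal.ne_top inferInstance) : (IsLocalRing.maximalIdeal (X.presheaf.stalk x)).height ≠ ⊤)
  exact ⟨c, by rw [← h, ← hc]; rfl⟩

/-- The strict localization of the closure of `x` at `y` has positive dimension, at most the difference of
the codimensions. -/
theorem exists_dim_quot {X : Scheme.{u}} [IsLocallyNoetherian X] {x y : X} (hxy : x ⤳ y) (hne : x ≠ y)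
    (R : Type u) [CommRing R] [IsLocalRing R] [Algebra (X.presheaf.stalk y) R]
    [IsLocalHom (algebraMap (X.presheaf.stalk y) R)] [Hensel.IsStrictHenselization (X.presheaf.stalk y) R]
    {cx cy : ℕ} (hcx : ringKrullDim (X.presheaf.stalk x) = cx) (hcy : ringKrullDim (X.presheaf.stalk y) = cy) :
    ∃ e : ℕ, 1 ≤ e ∧ e + cx ≤ cy ∧
      ringKrullDim (R ⧸ (RingHom.ker (Cyc.specMap y x hxy)).map (algebraMap (X.presheaf.stalk y) R)) = e := by
  let A := X.presheaf.stalk y
  let px := RingHom.ker (Cyc.specMap y x hxy)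
  have hgen : (Cyc90.genPrime hxy).asIdeal = px := by
    change Ideal.comap (X.presheaf.stalkSpecializes hxy).hom (IsLocalRing.maximalIdeal _) = _
    rw [← IsLocalRing.ker_residue (R := X.presheaf.stalk x), RingHom.comap_ker]
    rfl
  have : px.IsPrime := RingHom.ker_isPrime _
  have hpxh : (px.height : WithBot ℕ∞) = cx := by rw [← hgen, ← Cyc90.stalk_dim_eq_height, hcx]
  have hR : IsNoetherianRing R := (S0540.result A R).1 inferInstance
  have hdimR : ringKrullDim R = cy := (S0541.result A R).trans hcy
  have : Module.FaithfullyFlat A R := S0539.result A R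
  let I := px.map (algebraMap A R)
  have hIne : I ≠ ⊤ := by
    refine fun h => (IsLocalRing.maximalIdeal.isMaximal R).ne_top (eq_top_iff.2 (h.ge.trans ?_))
    exact (Ideal.map_mono (IsLocalRing.le_maximalIdeal (Ideal.IsPrime.ne_top inferInstance))).trans
      (S0538.result A R).le
  -- minimal primes lie over `px`
  have hover : ∀ P ∈ I.minimalPrimes, P.comap (algebraMap A R) = px := by
    intro P hP
    have := hP.1.1
    have hle : px ≤ P.comap (algebraMap A R) := Ideal.map_le_iff_le_comap.1 hP.1.2
    have : P.LiesOver (P.comap (algebraMap A R)) := ⟨rfl⟩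
    obtain ⟨Q, hQP, hQ, hQo⟩ := P.exists_ideal_le_liesOver_of_le (p := px) (q := P.comap (algebraMap A R)) hle
    have : P ≤ Q := hP.2 ⟨hQ, Ideal.map_le_iff_le_comap.2 hQo.over.le⟩ hQP
    exact le_antisymm ((Ideal.comap_mono this).trans hQo.over.ge) hle
  have hkd := ringKrullDim_quotient I
  have : Nonempty (PrimeSpectrum.zeroLocus (I : Set R)) := by
    obtain ⟨P, hP, -⟩ := Ideal.exists_minimalPrimes_le (IsLocalRing.le_maximalIdeal hIne)
    exact ⟨⟨⟨P, hP.1.1⟩, hP.1.2⟩⟩
  obtain ⟨e, he⟩ : ∃ e : ℕ, ringKrullDim (R ⧸ I) = e := by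
    have : Nontrivial (R ⧸ I) := Ideal.Quotient.nontrivial_iff.2 hIne
    have h1 := ringKrullDim_nonneg_of_nontrivial (R := R ⧸ I)
    have h2 : ringKrullDim (R ⧸ I) ≤ cy := hdimR ▸ ringKrullDim_quotient_le I
    revert h1 h2
    generalize ringKrullDim (R ⧸ I) = z
    intro h1 h2
    induction z using WithBot.recBotCoe with
    | bot => exact absurd h1 (by simp)
    | coe z =>
      induction z using ENat.recTopCoe with
      | top => exact absurd h2 (fun hh => ENat.coe_ne_top cy (top_le_iff.1 (WithBot.coe_le_coe.1 hh)))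
      | coe z => exact ⟨z, rfl⟩
  refine ⟨e, ?_, ?_, he⟩
  · by_contra h0
    obtain rfl : e = 0 := by omega
    have : Ring.KrullDimLE 0 (R ⧸ I) := Ring.krullDimLE_iff.2 he.le
    obtain ⟨P, hP, hPm⟩ := Ideal.exists_minimalPrimes_le (IsLocalRing.le_maximalIdeal hIne)
    have := hP.1.1
    have h1 : (P.map (Ideal.Quotient.mk I)).IsPrime :=
      Ideal.map_isPrime_of_surjective Ideal.Quotient.mk_surjective (by rw [Ideal.mk_ker]; exact hP.1.2)
    have h2 : (P.map (Ideal.Quotient.mk I)).IsMaximal := Ideal.IsPrime.isMaximal' h1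
    have h3 := Ideal.comap_isMaximal_of_surjective _ (Ideal.Quotient.mk_surjective (I := I)) (K := P.map (Ideal.Quotient.mk I))
    rw [Ideal.comap_map_of_surjective' _ Ideal.Quotient.mk_surjective, Ideal.mk_ker, sup_eq_left.2 hP.1.2] at h3
    have h4 : px = IsLocalRing.maximalIdeal A := by
      rw [← hover P hP, IsLocalRing.eq_maximalIdeal h3, IsLocalRing.maximalIdeal_comap]
    refine hne ((Cyc90.genPrime_eq_iff hxy (specializes_refl y)).1 (PrimeSpectrum.ext ?_))
    rw [hgen, h4]
    change _ = Ideal.comap (X.presheaf.stalkSpecializes (specializes_refl y)).hom (IsLocalRing.maximalIdeal _)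
    rw [TopCat.Presheaf.stalkSpecializes_refl]
    rfl
  · have hk : Order.krullDim (PrimeSpectrum.zeroLocus (I : Set R)) = (e : WithBot ℕ∞) := hkd.symm.trans he
    obtain ⟨l, hl⟩ : ∃ l : LTSeries (PrimeSpectrum.zeroLocus (I : Set R)), l.length = e :=
      Order.le_krullDim_iff.1 hk.ge
    have := (l.head).1.2
    obtain ⟨P, hP, hPl⟩ := Ideal.exists_minimalPrimes_le (show I ≤ l.head.1.asIdeal from l.head.2)
    have := hP.1.1
    obtain ⟨c, hc, hclast⟩ : ∃ c : LTSeries (PrimeSpectrum A), c.length = cx ∧ c.last = ⟨px, inferInstance⟩ := by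
      have hh : Order.height (⟨px, inferInstance⟩ : PrimeSpectrum A) = (cx : ℕ∞) := by
        rw [← PrimeSpectrum.height_eq_orderHeight]
        exact_mod_cast hpxh
      obtain ⟨c, hc1, hc2⟩ := Order.exists_series_of_height_eq_coe _ hh
      exact ⟨c, hc2, hc1⟩
    have : P.LiesOver c.last.asIdeal := ⟨by rw [hclast]; exact (hover P hP).symm⟩
    obtain ⟨L, hL, hLlast, -⟩ := Ideal.exists_ltSeries_of_hasGoingDown c P
    let l' : LTSeries (PrimeSpectrum R) := l.map Subtype.val (fun _ _ h => h)
    have hl' : l'.head.asIdeal = l.head.1.asIdeal := rfl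
    rcases eq_or_lt_of_le (show L.last ≤ l'.head by rw [hLlast]; exact hPl) with heq | hlt
    · have := Order.LTSeries.length_le_krullDim (L.smash l' heq)
      rw [← ringKrullDim, hdimR] at this
      change ((L.length + l'.length : ℕ) : WithBot ℕ∞) ≤ _ at this
      rw [show l'.length = e from hl, hL, hc] at this
      have := WithBot.coe_le_coe.1 (this.trans_eq rfl)
      norm_cast at this
      omega
    · have := Order.LTSeries.length_le_krullDim (L.append l' hlt)
      rw [← ringKrullDim, hdimR] at this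
      change ((L.length + l'.length + 1 : ℕ) : WithBot ℕ∞) ≤ _ at this
      rw [show l'.length = e from hl, hL, hc] at this
      norm_cast at this
      omega

end Groth.Agent.CdP50
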