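import Groth.Agent.Depth22.TopDegree
import Groth.Agent.Cons51.PushFinite
import Groth.Agent.Pinch2.Base
import Groth.Agent.S0432

/-!
Cohomology of `t_! ℤ/p` for an open immersion `t` is a quotient of the cohomology of constant sheaves
on finite schemes over the base: the double of a scheme along a closed subscheme.
-/

set_option autoImplicit false
universe u

open CategoryTheory CategoryTheory.Limits AlgebraicGeometry Opposite CategoryTheory.Abelian
open Groth.Agent.Unr55.EtSh Groth.Agent.EtCore45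

namespace Groth.Agent.CdP50

/-- Two copies of a scheme glued along a closed subscheme. -/
theorem exists_double {Y Z : Scheme.{u}} (i : Z ⟶ Y) [IsClosedImmersion i] [IsLocallyNoetherian Y] :
    ∃ (D : Scheme.{u}) (a b : Y ⟶ D) (r : D ⟶ Y), IsPullback i i a b ∧ IsClosedImmersion a ∧
      IsClosedImmersion b ∧ IsFinite r ∧ a ≫ r = 𝟙 _ ∧ b ≫ r = 𝟙 _ ∧
      ∀ p, (∃ x, a x = p) ∨ ∃ y, b y = p := by
  obtain ⟨D, a, b, hpo, hpb, ha, hb⟩ := S0432.result i i
  have := ha
  have := hb
  have H : Pinch2.HasPairs i i := Pinch2.hasPairs_closedImmersion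
  let r : D ⟶ Y := hpo.desc (𝟙 Y) (𝟙 Y) rfl
  have har : a ≫ r = 𝟙 Y := hpo.inl_desc _ _ _
  have hbr : b ≫ r = 𝟙 Y := hpo.inr_desc _ _ _
  have hs : ∀ p, (∃ x, a x = p) ∨ ∃ y, b y = p := Pinch2.jointly_surjective' H hpo
  have : LocallyOfFiniteType (a ≫ r) := by rw [har]; infer_instance
  have : LocallyOfFiniteType (b ≫ r) := by rw [hbr]; infer_instance
  have : LocallyOfFiniteType r := Pinch2.locallyOfFiniteType_of_pushout H hpo
  have : IsSeparated r := Pinch2.isSeparated_of_cover hs har hbr
  have : QuasiCompact r := Pinch2.quasiCompact_of_cover hs har hbr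
  have : UniversallyClosed r := Pinch2.universallyClosed_of_cover hs har hbr
  have : IsProper r := { }
  have hfib : ∀ y : Y, r ⁻¹' {y} ⊆ {a y, b y} := fun y p hp => by
    rcases hs p with ⟨x, rfl⟩ | ⟨x, rfl⟩
    · have : x = y := by
        have h : (a ≫ r) x = y := hp
        rwa [har] at h
      exact Or.inl (congrArg a this)
    · have : x = y := by
        have h : (b ≫ r) x = y := hp
        rwa [hbr] at h
      exact Or.inr (congrArg b this)
  have : LocallyQuasiFinite r := LocallyQuasiFinite.of_finite_preimage_singleton r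
    (fun y => ((Set.finite_singleton (b y)).insert (a y)).subset (hfib y))
  exact ⟨D, a, b, r, hpb, ha, hb, IsFinite.of_isProper_of_locallyQuasiFinite r, har, hbr, hs⟩

variable {D Y : Scheme.{u}}

/-- Restriction along a section of a finite morphism is surjective on cohomology of sheaves from the base. -/
theorem surjective_restrict (s : Y ⟶ D) [IsClosedImmersion s] (r : D ⟶ Y) [IsFinite r] (w : s ≫ r = 𝟙 _)
    (F : EtCoh.Ab Y) (q : ℕ) :
    Function.Surjective fun x : EtCoh.H D ((EtCoh.pull r).obj F) q =>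
      x.comp (Ext.mk₀ ((EtCoh.pullPushAdj s).unit.app ((EtCoh.pull r).obj F))) (add_zero q) := by
  let u' := (EtCoh.pullPushAdj r).unit.app F
  let g := (EtCoh.pullPushAdj s).unit.app ((EtCoh.pull r).obj F)
  -- the unit of the composite adjunction is an isomorphism
  have hiso : IsIso (u' ≫ (EtCoh.push r).map g) := by
    have h := Adjunction.unit_leftAdjointUniq_hom_app (EtCoh.pullPushAdj (s ≫ r))
      (((EtCoh.pullPushAdj r).comp (EtCoh.pullPushAdj s)).ofNatIsoRight (EtCoh.pushComp r s)) F
    have : IsIso ((EtCoh.pullPushAdj (s ≫ r)).unit.app F) := by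
      have : IsClosedImmersion (s ≫ r) := by rw [w]; infer_instance
      have : Surjective (s ≫ r) := by rw [w]; infer_instance
      exact Cons51.isIso_unit_surjective_closed (s ≫ r) F
    have e : (((EtCoh.pullPushAdj r).comp (EtCoh.pullPushAdj s)).ofNatIsoRight (EtCoh.pushComp r s)).unit.app F =
        (u' ≫ (EtCoh.push r).map g) ≫ (EtCoh.pushComp r s).hom.app _ := by
      simp [Adjunction.ofNatIsoRight, u', g]
    have h2 : IsIso ((u' ≫ (EtCoh.push r).map g) ≫ (EtCoh.pushComp r s).hom.app _) := by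
      rw [← e, ← h]
      exact inferInstance
    exact @IsIso.of_isIso_comp_right _ _ _ _ _ _ _ inferInstance h2
  let σ := inv (u' ≫ (EtCoh.push r).map g) ≫ u'
  have hσ : σ ≫ (EtCoh.push r).map g = 𝟙 _ := by
    rw [Category.assoc, IsIso.inv_hom_id]
  have := Unr55.EtSh.preservesFiniteLimits_pull r
  let A := fun G : EtCoh.Ab D => adjTransfer.{u + 1} (EtCoh.pullPushAdj r) (EtCore.pullConst r ℤ).inv G q
  have hA : ∀ G : EtCoh.Ab D, Function.Bijective (A G) := fun G =>
    adjTransfer_bijective.{u + 1} (EtCoh.pullPushAdj r) (EtCore.pullConst r ℤ).inv q G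
      (fun n hn => Unr55.EtSh.isZero_Rpush_of_finite r G n hn)
  intro z
  obtain ⟨ζ, hζ⟩ := (hA ((EtCoh.push s).obj ((EtCoh.pull s).obj ((EtCoh.pull r).obj F)))).2 z
  refine ⟨A _ (ζ.comp (Ext.mk₀ σ) (add_zero q)), ?_⟩
  refine ((adjTransfer_naturality (EtCoh.pullPushAdj r) (EtCore.pullConst r ℤ).inv _ g).symm).trans ?_
  rw [← hζ, Ext.comp_assoc_of_second_deg_zero, Ext.mk₀_comp_mk₀, hσ]
  exact congrArg _ (Ext.comp_mk₀_id _)

end Groth.Agent.CdP50
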