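import Groth.Agent.EtCore45.ExtZeroOpen
import Groth.Agent.EtTrace93.Trace
import Groth.Agent.S0385
import Groth.Agent.S0653

/-!
Extensions by zero composed with finite direct images.
-/

set_option autoImplicit false
set_option backward.isDefEq.respectTransparency.types false
universe u

open CategoryTheory CategoryTheory.Limits AlgebraicGeometry Opposite
open Groth.Agent.Unr55.EtSh Groth.Agent.EtCore45

namespace Groth.Agent.CdP50

variable {T U X : Scheme.{u}}

/-- Extensions by zero along monomorphic etale maps compose. -/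
theorem nonempty_extZero_comp (ι : T ⟶ U) (k : U ⟶ X) [Etale ι] [Etale k] [Etale (ι ≫ k)] :
    Nonempty (EtShriek.extZero ι ⋙ EtShriek.extZero k ≅ EtShriek.extZero (ι ≫ k)) := by
  let e : EtShriek.restrAlong k ⋙ EtShriek.restrAlong ι ≅ EtShriek.restrAlong (ι ≫ k) :=
    (Functor.isoWhiskerRight (pullRestrIso k).symm _ ≪≫ Functor.isoWhiskerLeft _ (pullRestrIso ι).symm) ≪≫
      (EtCore.pullComp ι k).symm ≪≫ pullRestrIso (ι ≫ k)
  exact ⟨Adjunction.leftAdjointUniq
    (((EtShriek.extZeroAdj ι).comp (EtShriek.extZeroAdj k)).ofNatIsoRight e) (EtShriek.extZeroAdj (ι ≫ k))⟩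

/-- An open subscheme which is also closed: direct image is extension by zero. -/
theorem nonempty_extZero_push_iso (ι : T ⟶ U) [Etale ι] [IsFinite ι] (G : EtCoh.Ab T) :
    Nonempty ((EtCoh.push ι).obj G ≅ (EtShriek.extZero ι).obj G) := by
  have := EtTrace93.isIso_extToPush ι G
  exact ⟨(asIso ((extToPush ι).app G)).symm⟩

/-- Extension by zero of a finite direct image is a finite direct image of an extension by zero. -/
theorem exists_model {V Y : Scheme.{u}} [CompactSpace Y] [QuasiSeparatedSpace Y] (t : V ⟶ Y)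
    [IsOpenImmersion t] [QuasiCompact t] (π : T ⟶ V) [IsFinite π] :
    ∃ (Y' : Scheme.{u}) (h : Y' ⟶ Y) (_ : IsFinite h) (t' : T ⟶ Y') (_ : IsOpenImmersion t') (_ : QuasiCompact t'),
      ∀ G : EtCoh.Ab T, Nonempty ((EtCoh.push h).obj ((EtShriek.extZero t').obj G) ≅
        (EtShriek.extZero t).obj ((EtCoh.push π).obj G)) := by
  obtain ⟨Y', t', h, ht', hqc, hfin, hfac⟩ := S0385.result (π ≫ t)
  have := hfin
  have := ht'
  let g := pullback.snd h t
  let k := pullback.fst h t
  let ι : T ⟶ pullback h t := pullback.lift t' π hfac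
  have hιk : ι ≫ k = t' := pullback.lift_fst _ _ _
  have hιg : ι ≫ g = π := pullback.lift_snd _ _ _
  have : IsFinite g := MorphismProperty.pullback_snd _ _ hfin
  have : IsOpenImmersion k := inferInstanceAs (IsOpenImmersion (pullback.fst h t))
  have : IsOpenImmersion (ι ≫ k) := by rw [hιk]; exact ht'
  have : IsOpenImmersion ι := IsOpenImmersion.of_comp ι k
  have : IsFinite (ι ≫ g) := by rw [hιg]; infer_instance
  have : IsFinite ι := IsFinite.of_comp ι g
  refine ⟨Y', h, hfin, ι ≫ k, inferInstance, hιk ▸ hqc, fun G => ?_⟩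
  obtain ⟨e1⟩ := S0653.result h t k g (IsPullback.of_hasPullback h t) ((EtCoh.push ι).obj G)
  obtain ⟨e2⟩ := nonempty_extZero_push_iso ι G
  obtain ⟨e3⟩ := nonempty_extZero_comp ι k
  have e5 : (EtCoh.push (ι ≫ g)).obj G ≅ (EtCoh.push π).obj G := eqToIso (by rw [hιg])
  exact ⟨(EtCoh.push h).mapIso ((e3.app G).symm ≪≫ (EtShriek.extZero k).mapIso e2.symm) ≪≫ e1 ≪≫
    (EtShriek.extZero t).mapIso ((EtCoh.pushComp g ι).app G ≪≫ e5)⟩

end Groth.Agent.CdP50
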