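import Groth.Agent.CdP50.Basic
import Groth.Agent.CdP50.Double
import Groth.Agent.CdP50.Push
import Groth.Agent.Cons51.Filtration
import Groth.Agent.Cons51.Colim
import Groth.Agent.Cons51.Present
import Groth.Agent.Unr55.Et.HFiltColim
import Groth.Agent.S0657
import Groth.Prelude.Def_Dix

/-!
The cohomological `p`-dimension of a Noetherian scheme is detected by the constant sheaf `ℤ/p` on the
schemes finite over it.
-/

set_option autoImplicit false
set_option backward.isDefEq.respectTransparency.types false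
universe u

open CategoryTheory CategoryTheory.Limits AlgebraicGeometry Opposite CategoryTheory.Abelian TopologicalSpace
open Groth.Agent.Unr55.EtSh Groth.Agent.EtCore45

namespace Groth.Agent.CdP50

variable (p : ℕ) [Fact p.Prime] (X : Scheme.{u}) (N : ℕ)

/-- The constant sheaf has no cohomology above `N` on schemes finite over `X`. -/
def ConstVan : Prop :=
  ∀ (Y : Scheme.{u}) (h : Y ⟶ X), IsFinite h → ∀ q, N < q →
    Subsingleton (EtCoh.H Y (EtCoh.const Y (ZMod p)) q)

variable {p X N}

theorem isNoetherian_of_finite [IsNoetherian X] {Y : Scheme.{u}} (h : Y ⟶ X) [IsFinite h] : IsNoetherian Y :=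
  { toIsLocallyNoetherian := LocallyOfFiniteType.isLocallyNoetherian h
    toCompactSpace := QuasiCompact.compactSpace_of_compactSpace h }

/-- Extensions by zero of the constant sheaf from opens of schemes finite over `X`. -/
theorem van_open_const [IsNoetherian X] (hX : ConstVan p X N) {Y : Scheme.{u}} (h : Y ⟶ X) [IsFinite h]
    {V : Scheme.{u}} (t : V ⟶ Y) [IsOpenImmersion t] {q : ℕ} (hq : N < q) :
    Subsingleton (EtCoh.H Y ((EtShriek.extZero t).obj (EtCoh.const V (ZMod p))) q) := by
  have := isNoetherian_of_finite h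
  let C : Closeds Y := ⟨(Set.range t)ᶜ, t.isOpenEmbedding.isOpen_range.isClosed_compl⟩
  let I := Scheme.IdealSheafData.vanishingIdeal C
  let i := I.subschemeι
  have hri : Set.range i = (Set.range t)ᶜ := by
    rw [Scheme.IdealSheafData.range_subschemeι, Scheme.IdealSheafData.coe_support_vanishingIdeal]; rfl
  obtain ⟨D, a, b, r, hpb, ha, hb, hr, har, hbr, hcov⟩ := exists_double i
  have := ha
  have := hb
  have := hr
  let O : D.Opens := ⟨(Set.range a)ᶜ, a.isClosedEmbedding.isClosed_range.isOpen_compl⟩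
  have hO : Set.range O.ι = (Set.range a)ᶜ := O.range_ι
  -- the second copy meets `O` in `V`
  have hmeet : ∀ y : Y, b y ∈ O ↔ y ∈ Set.range t := by
    intro y
    constructor
    · intro hy
      by_contra hn
      obtain ⟨z, hz⟩ : y ∈ Set.range i := hri.ge hn
      refine hy ⟨i z, ?_⟩
      rw [← Scheme.Hom.comp_apply, hpb.w, Scheme.Hom.comp_apply, hz]
    · rintro hy ⟨x, hx⟩
      obtain ⟨z, -, hz⟩ := Scheme.Pullback.exists_preimage_pullback x y hx
      have hz' : i (hpb.isoPullback.inv z) = y := by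
        rw [← Scheme.Hom.comp_apply, IsPullback.isoPullback_inv_snd, hz]
      exact (hri.le ⟨_, hz'⟩) hy
  let l : V ⟶ O.toScheme := IsOpenImmersion.lift O.ι (t ≫ b) (by
    rintro _ ⟨v, rfl⟩
    rw [O.range_ι]
    exact (hmeet _).2 ⟨v, rfl⟩)
  have hl : l ≫ O.ι = t ≫ b := IsOpenImmersion.lift_fac _ _ _
  have hcart : IsPullback t l b O.ι := by
    refine (IsOpenImmersion.isPullback l t O.ι b hl.symm ?_).flip
    ext y
    simp only [TopologicalSpace.Opens.map_coe, Scheme.Hom.coe_opensRange, Set.mem_preimage, O.range_ι]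
    exact hmeet y
  have : IsClosedImmersion l := MorphismProperty.of_isPullback hcart hb
  have : Surjective l := ⟨fun o => by
    rcases hcov (O.ι o) with ⟨x, hx⟩ | ⟨y, hy⟩
    · exact absurd ⟨x, hx⟩ o.2
    · obtain ⟨v, rfl⟩ := (hmeet y).1 (by rw [hy]; exact o.2)
      refine ⟨v, O.ι.isOpenEmbedding.injective ?_⟩
      rw [← Scheme.Hom.comp_apply, hl, Scheme.Hom.comp_apply, hy]⟩
  -- the sequence on the double
  let C' := (EtCoh.pull r).obj (EtCoh.const Y (ZMod p))
  obtain ⟨w, hS⟩ := shortExact_open_closed a O.ι hO C'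
  have hC : ∀ q, N < q → Subsingleton (EtCoh.H D C' q) := fun q hq =>
    Depth22.subsingleton_H_of_iso (EtCore.pullConst r (ZMod p)).symm (hX D (r ≫ h) inferInstance q hq)
  have hA : Subsingleton (EtCoh.H D ((EtShriek.extZero O.ι).obj ((EtShriek.restrAlong O.ι).obj C')) q) := by
    obtain ⟨q, rfl⟩ : ∃ m, q = m + 1 := ⟨q - 1, by omega⟩
    refine subsingleton_of_forall_eq 0 fun x => ?_
    obtain ⟨y, rfl⟩ := Ext.covariant_sequence_exact₁ _ hS x ((hC _ hq).elim _ _) rfl
    obtain ⟨z, rfl⟩ := surjective_restrict a r har (EtCoh.const Y (ZMod p)) q y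
    show (z.comp (Ext.mk₀ (ShortComplex.mk _ _ w).g) (add_zero q)).comp hS.extClass rfl = 0
    rw [Ext.comp_assoc_of_second_deg_zero, hS.comp_extClass, Ext.comp_zero]
  let G := (EtCoh.pull l).obj ((EtShriek.restrAlong O.ι).obj C')
  obtain ⟨e⟩ := S0653.result b O.ι t l hcart G
  have := Cons51.isIso_unit_surjective_closed l ((EtShriek.restrAlong O.ι).obj C')
  have e1 : (EtCoh.push b).obj ((EtShriek.extZero t).obj G) ≅
      (EtShriek.extZero O.ι).obj ((EtShriek.restrAlong O.ι).obj C') :=
    e ≪≫ (EtShriek.extZero O.ι).mapIso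
      (asIso ((EtCoh.pullPushAdj l).unit.app ((EtShriek.restrAlong O.ι).obj C'))).symm
  have e2 : G ≅ EtCoh.const V (ZMod p) :=
    (EtCoh.pull l).mapIso (((pullRestrIso O.ι).app C').symm ≪≫
      (EtCoh.pull O.ι).mapIso (EtCore.pullConst r (ZMod p)) ≪≫ EtCore.pullConst O.ι (ZMod p)) ≪≫
      EtCore.pullConst l (ZMod p)
  exact Depth22.subsingleton_H_of_iso ((EtShriek.extZero t).mapIso e2)
    ((Depth22.H_push_finite b _ q).1 (Depth22.subsingleton_H_of_iso e1.symm hA))

/-- Connected base: the trace reduces to the constant sheaf. -/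
theorem van_connected [IsNoetherian X] (hX : ConstVan p X N) {Y : Scheme.{u}} (h : Y ⟶ X) [IsFinite h]
    {W : Scheme.{u}} (k : W ⟶ Y) [IsOpenImmersion k] [ConnectedSpace W] (G : EtCoh.Ab W)
    (hG : EtCoh.IsFiniteLocallyConstant G) (hGp : p • 𝟙 G = 0) {q : ℕ} (hq : N < q) :
    Subsingleton (EtCoh.H Y ((EtShriek.extZero k).obj G) q) := by
  have := isNoetherian_of_finite h
  obtain ⟨T, f, hf, hfe, d, hd, hcard, n, E, φ, h0, ⟨en⟩, hstep⟩ :=
    S0657.result W p G hG (Cons51.killedBy_of_nsmul hGp)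
  have := hf
  have := hfe
  obtain ⟨τ, hτ⟩ := EtTrace93.exists_trace f d hcard G
  -- multiplication by the degree is invertible
  obtain ⟨a, ha⟩ : ∃ a : ℕ, (d * a) • 𝟙 G = 𝟙 G := by
    obtain ⟨a, ha⟩ := Nat.exists_mul_mod_eq_one_of_coprime hd.symm (Fact.out : p.Prime).one_lt
    refine ⟨a, ?_⟩
    conv_lhs => rw [← Nat.mod_add_div (d * a) p, ha.2, add_nsmul, one_nsmul, mul_nsmul, hGp, nsmul_zero, add_zero]
  obtain ⟨Y', g, hg, t', ht', -, hiso⟩ := exists_model k f
  have := hg
  have := ht'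
  have := (extZero_exact t').2.2
  have hE : ∀ i, i ≤ n → Subsingleton (EtCoh.H Y' ((EtShriek.extZero t').obj (E i)) q) := by
    intro i
    induction i with
    | zero => exact fun _ => subsingleton_of_isZero ((EtShriek.extZero t').map_isZero h0) q
    | succ i ih =>
      intro hi
      obtain ⟨hm, ⟨e⟩⟩ := hstep i hi
      have := hm
      have hS : (ShortComplex.mk (φ i) (cokernel.π (φ i)) (cokernel.condition _)).ShortExact :=
        { exact := ShortComplex.exact_of_g_is_cokernel _ (cokernelIsCokernel _) }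
      exact subsingleton_mid (shortExact_extZero t' hS) (ih (by omega))
        (Depth22.subsingleton_H_of_iso ((EtShriek.extZero t').mapIso e).symm
          (van_open_const hX (g ≫ h) t' hq))
  have hbig : Subsingleton (EtCoh.H Y ((EtShriek.extZero k).obj ((EtCoh.push f).obj ((EtCoh.pull f).obj G))) q) := by
    obtain ⟨e⟩ := hiso ((EtCoh.pull f).obj G)
    exact Depth22.subsingleton_H_of_iso e ((Depth22.H_push_finite g _ q).2
      (Depth22.subsingleton_H_of_iso ((EtShriek.extZero t').mapIso en) (hE n le_rfl)))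
  refine subsingleton_of_retract ((EtShriek.extZero k).map ((EtCoh.pullPushAdj f).unit.app G))
    ((EtShriek.extZero k).map (τ ≫ (a • 𝟙 G))) ?_ hbig
  have key : (d • 𝟙 G) ≫ (a • 𝟙 G) = 𝟙 G := by
    rw [Preadditive.nsmul_comp, Category.id_comp, ← mul_nsmul']
    exact ha
  refine ((EtShriek.extZero k).map_comp _ _).symm.trans (Eq.trans ?_ ((EtShriek.extZero k).map_id G))
  refine congrArg (EtShriek.extZero k).map ?_
  exact (Category.assoc _ _ _).symm.trans ((congrArg (· ≫ (a • 𝟙 G)) hτ).trans key)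

/-- Extensions by zero of finite locally constant sheaves killed by `p`. -/
theorem van_flc [IsNoetherian X] (hX : ConstVan p X N) {Y : Scheme.{u}} (h : Y ⟶ X) [IsFinite h]
    {W : Scheme.{u}} [NoetherianSpace W] (k : W ⟶ Y) [IsOpenImmersion k] (G : EtCoh.Ab W)
    (hG : EtCoh.IsFiniteLocallyConstant G) (hGp : p • 𝟙 G = 0) {q : ℕ} (hq : N < q) :
    Subsingleton (EtCoh.H Y ((EtShriek.extZero k).obj G) q) := by
  suffices ∀ (C : Closeds W) (W' : Scheme.{u}) (ι : W' ⟶ W) [IsOpenImmersion ι], Set.range ι = (C : Set W) →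
      ∀ G' : EtCoh.Ab W', EtCoh.IsFiniteLocallyConstant G' → p • 𝟙 G' = 0 →
        Subsingleton (EtCoh.H Y ((EtShriek.extZero (ι ≫ k)).obj G') q) by
    have h1 := this ⊤ W (𝟙 W) (by simp) G hG hGp
    convert h1 using 3 <;> simp
  intro C
  induction C using WellFoundedLT.induction with
  | _ C ih =>
  intro W' ι _ hι G' hG' hG'p
  have := (extZero_exact (ι ≫ k)).2.2
  rcases isEmpty_or_nonempty W' with he | hne
  · exact subsingleton_of_isZero ((EtShriek.extZero (ι ≫ k)).map_isZero (isZero_of_isEmpty G')) q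
  by_cases hcon : ConnectedSpace W'
  · exact van_connected hX h (ι ≫ k) G' hG' hG'p hq
  obtain ⟨s, hs, hs0, hs1⟩ : ∃ s : Set W', IsClopen s ∧ s ≠ ∅ ∧ s ≠ Set.univ := by
    by_contra hh
    push Not at hh
    refine hcon ?_
    have : PreconnectedSpace W' := preconnectedSpace_iff_clopen.2 fun s hs =>
      s.eq_empty_or_nonempty.imp id fun h => hh s hs h
    exact ⟨‹_›⟩
  let O₁ : W'.Opens := ⟨s, hs.2⟩
  let O₂ : W'.Opens := ⟨sᶜ, hs.1.isOpen_compl⟩
  have hc2 : IsClosedImmersion O₂.ι := IsClosedImmersion.of_isPreimmersion O₂.ι (by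
    rw [O₂.range_ι]; exact hs.2.isClosed_compl)
  obtain ⟨w, hS⟩ := shortExact_open_closed O₂.ι O₁.ι (by
    rw [O₁.range_ι, O₂.range_ι]; exact (compl_compl s).symm) G'
  have hclosed : ∀ T : Set W', IsClosed T → IsClosed (ι '' T) := by
    refine (Topology.IsClosedEmbedding.mk ι.isOpenEmbedding.isEmbedding ?_).isClosedMap
    rw [hι]; exact C.isClosed
  have key : ∀ (O : W'.Opens), IsClosed (O : Set W') → (O : Set W') ≠ Set.univ → ∀ G₁ : EtCoh.Ab O.toScheme,
      EtCoh.IsFiniteLocallyConstant G₁ → p • 𝟙 G₁ = 0 →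
      Subsingleton (EtCoh.H Y ((EtShriek.extZero (ι ≫ k)).obj ((EtShriek.extZero O.ι).obj G₁)) q) := by
    intro O hO hO1 G₁ hG₁ hG₁p
    obtain ⟨e⟩ := nonempty_extZero_comp O.ι (ι ≫ k)
    refine Depth22.subsingleton_H_of_iso (e.app G₁).symm ?_
    have hlt : (⟨ι '' O, hclosed _ hO⟩ : Closeds W) < C := by
      refine lt_of_le_of_ne (fun x ⟨y, _, hy⟩ => hι.le ⟨y, hy⟩) fun e' => hO1 ?_
      refine Set.eq_univ_of_forall fun y => ?_
      obtain ⟨y', hy', he'⟩ := (congrArg SetLike.coe e').ge (hι.le ⟨y, rfl⟩)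
      rwa [ι.isOpenEmbedding.injective he'] at hy'
    have h1 := ih _ hlt O.toScheme (O.ι ≫ ι) (by
      rw [Scheme.Hom.comp_base, TopCat.coe_comp, Set.range_comp, O.range_ι]; rfl) G₁ hG₁ hG₁p
    convert h1 using 3 <;> simp
  have hf : ∀ O : W'.Opens, EtCoh.IsFiniteLocallyConstant ((EtCoh.pull O.ι).obj G') := fun O =>
    LocConst45.isFiniteLocallyConstant_pull O.ι hG'
  have hp' : ∀ O : W'.Opens, p • 𝟙 ((EtCoh.pull O.ι).obj G') = 0 := fun O =>
    have := (EtCoh.pullPushAdj O.ι).left_adjoint_additive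
    nsmul_map _ hG'p
  refine subsingleton_mid (shortExact_extZero (ι ≫ k) hS) ?_ ?_
  · exact key O₁ hs.1 hs1 _ (Cons51.flc_of_iso ((pullRestrIso O₁.ι).app G') (hf O₁))
      (nsmul_of_iso ((pullRestrIso O₁.ι).app G') (hp' O₁))
  · obtain ⟨e⟩ := nonempty_extZero_push_iso O₂.ι ((EtCoh.pull O₂.ι).obj G')
    exact Depth22.subsingleton_H_of_iso ((EtShriek.extZero (ι ≫ k)).mapIso e).symm
      (key O₂ hs.2.isClosed_compl (fun h => hs0 (Set.compl_univ_iff.1 h)) _ (hf O₂) (hp' O₂))

/-- Constructible sheaves killed by `p`. -/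
theorem van_constructible [IsNoetherian X] (hX : ConstVan p X N) {F : EtCoh.Ab X}
    (hF : EtPBC.IsConstructible F) (hFp : p • 𝟙 F = 0) {q : ℕ} (hq : N < q) :
    Subsingleton (EtCoh.H X F q) := by
  obtain ⟨n, E, ι, h0, ⟨e⟩, hs⟩ := Cons51.filt_of_isConstructible hF
  suffices ∀ k : Fin (n + 1), p • 𝟙 (E k) = 0 → Subsingleton (EtCoh.H X (E k) q) from
    Depth22.subsingleton_H_of_iso e (this _ (nsmul_of_iso e.symm hFp))
  intro k
  induction k using Fin.induction with
  | zero => exact fun _ => subsingleton_of_isZero h0 q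
  | succ k ih =>
    intro hk
    obtain ⟨U, W, j, hj, c, hc, G, π, hz, -, hG, hS⟩ := hs k
    have := hj
    have := hc
    have := hS.mono_f
    have := hS.epi_g
    refine subsingleton_mid hS (ih (nsmul_of_mono (ι k) hk)) ?_
    have := (extZero_exact j).2.2
    have hQ : p • 𝟙 ((EtShriek.extZero j).obj ((EtCoh.push c).obj G)) = 0 := nsmul_of_epi π hk
    have hGp : p • 𝟙 G = 0 := by
      have := isIso_unit_extZero_of_mono j ((EtCoh.push c).obj G)
      have := (EtShriek.extZeroAdj j).right_adjoint_additive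
      have h1 : p • 𝟙 ((EtCoh.push c).obj G) = 0 :=
        nsmul_of_mono ((EtShriek.extZeroAdj j).unit.app ((EtCoh.push c).obj G)) (nsmul_map (EtShriek.restrAlong j) hQ)
      have := Unr55.EtSh.isIso_counit_closed c G
      have := (EtCoh.pullPushAdj c).left_adjoint_additive
      exact nsmul_of_iso (asIso ((EtCoh.pullPushAdj c).counit.app G)) (nsmul_map (EtCoh.pull c) h1)
    obtain ⟨Y, g, hg, t, ht, -, hiso⟩ := exists_model j c
    have := hg
    have := ht
    have : IsLocallyNoetherian Y := LocallyOfFiniteType.isLocallyNoetherian g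
    have := isNoetherian_of_finite g
    have : NoetherianSpace W := t.isOpenEmbedding.isInducing.noetherianSpace
    obtain ⟨e'⟩ := hiso G
    exact Depth22.subsingleton_H_of_iso e' ((Depth22.H_push_finite g _ q).2 (van_flc hX g t G hG hGp hq))

/-- Constructible sheaves killed by a power of `p`. -/
theorem van_pow [IsNoetherian X] (hX : ConstVan p X N) {q : ℕ} (hq : N < q) :
    ∀ (m : ℕ) (F : EtCoh.Ab X), EtPBC.IsConstructible F → p ^ m • 𝟙 F = 0 → Subsingleton (EtCoh.H X F q) := by
  intro m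
  induction m with
  | zero =>
    intro F _ h
    rw [pow_zero, one_smul] at h
    exact subsingleton_of_isZero ((IsZero.iff_id_eq_zero F).2 h) q
  | succ m ih =>
    intro F hF h
    let μ : F ⟶ F := p • 𝟙 F
    let S : ShortComplex (EtCoh.Ab X) :=
      ShortComplex.mk (kernel.ι μ) (cokernel.π (kernel.ι μ)) (cokernel.condition _)
    have hS : S.ShortExact :=
      { exact := ShortComplex.exact_of_g_is_cokernel _ (cokernelIsCokernel _) }
    refine subsingleton_mid hS (van_constructible hX (Cons51.isConstructible_of_mono (kernel.ι μ) hF) ?_ hq)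
      (ih _ (Cons51.isConstructible_of_epi (cokernel.π (kernel.ι μ)) hF) ?_)
    · rw [← cancel_mono (kernel.ι μ), zero_comp, Preadditive.nsmul_comp, Category.id_comp,
        ← Category.comp_id (kernel.ι μ), ← Preadditive.comp_nsmul]
      exact kernel.condition μ
    · let d : cokernel (kernel.ι μ) ⟶ F := cokernel.desc (kernel.ι μ) μ (kernel.condition μ)
      have : Mono d := inferInstanceAs (Mono (Abelian.factorThruCoimage μ))
      rw [← cancel_mono d, zero_comp, Preadditive.nsmul_comp, Category.id_comp,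
        ← cancel_epi (cokernel.π (kernel.ι μ)), comp_zero, Preadditive.comp_nsmul, cokernel.π_desc]
      rw [smul_smul, ← pow_succ]
      exact h

/-- The cohomological `p`-dimension is detected on constant sheaves of finite schemes. -/
theorem cohDimLEAt_of_constVan [IsNoetherian X] (hX : ConstVan p X N) : Dix.CohDimLEAt X p N := by
  intro F hF q hq
  let P : EtCoh.Ab X → Prop := fun G => EtPBC.IsConstructible G ∧ ∃ m, p ^ m • 𝟙 G = 0
  have hgen : Cons51.Generating F P :=
    { cons := fun _ h => h.1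
      iso := fun _ _ e h => ⟨Cons51.isConstructible_of_iso e.some h.1, h.2.imp fun _ hm => nsmul_of_iso e.some hm⟩
      zero := ⟨Cons51.isConstructible_zero, 0, (isZero_zero _).eq_of_src _ _⟩
      sum := fun A B hA hB => by
        obtain ⟨hA, a, ha⟩ := hA
        obtain ⟨hB, b, hb⟩ := hB
        refine ⟨Cons51.isConstructible_biprod hA hB, a + b, ?_⟩
        have ha' : p ^ (a + b) • 𝟙 A = 0 := by rw [pow_add, mul_nsmul, ha, nsmul_zero]
        have hb' : p ^ (a + b) • 𝟙 B = 0 := by rw [pow_add, mul_nsmul', hb, nsmul_zero]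
        apply biprod.hom_ext <;>
          simp only [zero_comp, Preadditive.nsmul_comp, Category.id_comp]
        · rw [← Category.comp_id biprod.fst, ← Preadditive.comp_nsmul, ha', comp_zero]
        · rw [← Category.comp_id biprod.snd, ← Preadditive.comp_nsmul, hb', comp_zero]
      quot := fun A B φ hA hB => ⟨(Cons51.isConstructible_kernel_cokernel φ hA hB.1).2,
        hB.2.imp fun _ hm => nsmul_of_epi (cokernel.π φ) hm⟩
      germ := fun K _ _ η a => by
        obtain ⟨U, s, σ, rfl⟩ := exists_germ_eq η F a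
        obtain ⟨V, g, ⟨v, hv⟩, m, hm⟩ := hF U σ (hom η s default)
        obtain ⟨t, ht⟩ := LocConst45.exists_pt_over g s v hv
        obtain ⟨B, hB, htB, -⟩ :=
          exists_isAffineOpen_mem_and_subset (X := V.left) (x := hom η t default) (U := ⊤) trivial
        have : NeZero (p ^ m) := ⟨pow_ne_zero m (Fact.out : p.Prime).ne_zero⟩
        have : IsAffine (openSub V B).left := hB
        obtain ⟨f, e, hfe⟩ := Cons51.exists_genSect (openSub V B) (p ^ m)
          (F.obj.map (openSubι V B).op (F.obj.map g.op σ)) (by rw [← map_nsmul, hm, map_zero])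
        refine ⟨_, ⟨Cons51.isConstructible_genObj (openSub V B) (p ^ m), m, Cons51.nsmul_extZeroConst _ _⟩, f,
          germ η _ (ptOpen B t htB) e, ?_⟩
        rw [stalk_map_germ]
        refine (congrArg (germ η F (ptOpen B t htB)) hfe).trans ?_
        refine (germ_map η F (openSubι V B) (ptOpen B t htB) _).trans ?_
        rw [map_ptOpen, germ_map, ht] }
  obtain ⟨J, _, _, D, c, hc, ⟨e⟩, hD⟩ := Cons51.exists_isColimit hgen
  have := Unr55.HColim.preservesColimitsOfShape_HF (X := X) J q
  refine Depth22.subsingleton_H_of_iso e ?_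
  have hc' := isColimitOfPreserves (EtCoh.HF X q) hc
  refine AddCommGrpCat.subsingleton_of_isZero (show IsZero ((EtCoh.HF X q).mapCocone c).pt from ?_)
  refine (IsZero.iff_id_eq_zero _).2 (hc'.hom_ext fun j => ?_)
  have hj : IsZero ((EtCoh.HF X q).obj (D.obj j)) := by
    obtain ⟨hcj, m, hm⟩ := hD j
    exact @AddCommGrpCat.isZero_of_subsingleton _ (van_pow hX hq m _ hcj hm)
  exact hj.eq_of_src _ _

end Groth.Agent.CdP50
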