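import Groth.Agent.TopCoh49.Noetherian
import Mathlib.Topology.Sheaves.MayerVietoris

/-!
In the top degree, cohomology classes extend from open subspaces.
-/

set_option autoImplicit false
universe u

open CategoryTheory Limits TopologicalSpace Opposite Abelian
open Groth.Agent.TopCoh49

noncomputable section

namespace Groth.Agent.CdP50

variable {X : TopCat.{u}}

/-- A class which vanishes on `U ⊓ V` extends from `U` to `U ⊔ V`. -/
theorem exists_extend_zero (F : CohTop.Ab X) (n : ℕ) (U V : Opens X) (a : E F n U)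
    (h : eres F n (inf_le_left : U ⊓ V ≤ U) a = 0) :
    ∃ b : E F n (U ⊔ V), eres F n le_sup_left b = a := by
  let S := (Opens.mayerVietorisSquare U V).shortComplex
  have hS : S.ShortExact := (Opens.mayerVietorisSquare U V).shortComplex_shortExact
  let f₁ : freeU U ⟶ S.X₂ := biprod.inl
  let p₁ : S.X₂ ⟶ freeU U := biprod.fst
  have hfp : S.f ≫ p₁ = (freeFun X).map (homOfLE (inf_le_left : U ⊓ V ≤ U)) := biprod.lift_fst _ _
  have hgi : f₁ ≫ S.g = (freeFun X).map (homOfLE (le_sup_left : U ≤ U ⊔ V)) := biprod.inl_desc _ _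
  obtain ⟨b, hb⟩ := Ext.contravariant_sequence_exact₂ hS F ((Ext.mk₀ p₁).comp a (zero_add n)) (by
    refine (Ext.mk₀_comp_mk₀_assoc _ _ _).trans ?_
    rw [hfp]
    exact h)
  refine ⟨b, ?_⟩
  have h' := congrArg (fun e => (Ext.mk₀ f₁).comp e (zero_add n)) hb
  simp only [Ext.mk₀_comp_mk₀_assoc] at h'
  rw [hgi, show f₁ ≫ p₁ = 𝟙 _ from biprod.inl_fst, Ext.mk₀_id_comp] at h'
  exact h'

/-- Restriction to an open is surjective in the degree of the dimension. -/
theorem eres_surjective_of_dim_le [NoetherianSpace X] {n : ℕ} (hn : topologicalKrullDim X ≤ n)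
    (F : CohTop.Ab X) (U : Opens X) :
    Function.Surjective (eres F n (le_top : U ≤ ⊤)) := by
  intro a
  let T : Set (Opens X) := {O | ∃ (h : U ≤ O) (b : E F n O), eres F n h b = a}
  obtain ⟨O, ⟨hUO, b, hb⟩, hmax⟩ :=
    (wellFounded_gt : WellFounded ((· > ·) : Opens X → Opens X → Prop)).has_min T
      ⟨U, le_rfl, a, eres_self F n le_rfl a⟩
  by_cases hO : O = ⊤
  · subst hO
    exact ⟨b, hb⟩
  exfalso
  obtain ⟨y, hy⟩ : ∃ y, y ∉ O := by
    by_contra hh
    push Not at hh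
    exact hO (eq_top_iff.2 fun x _ => hh x)
  let Y : IrreducibleCloseds X := ⟨closure {y}, isIrreducible_singleton.closure, isClosed_closure⟩
  have hYO : ¬((Y : Set X) ∩ O).Nonempty := fun ⟨z, hz, hzO⟩ =>
    hy ((specializes_iff_mem_closure.2 hz).mem_open O.2 hzO)
  let S : Set (IrreducibleCloseds X) := {C | Y ≤ C ∧ ((C : Set X) ∩ O).Nonempty}
  obtain ⟨W', hW', hcov, h0⟩ := exists_open_kill n S
    (fun C D hCD hC => ⟨hC.1.trans hCD, hC.2.mono fun x hx => ⟨hCD hx.1, hx.2⟩⟩)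
    (fun l hl => by
      have hlt : Y < l.head := lt_of_le_of_ne (hl 0).1 fun e => hYO (e ▸ (hl 0).2)
      have := chain_length_le hn (l.cons Y hlt)
      rw [RelSeries.cons_length] at this
      omega)
    F O (fun C hC => hC.2) b
  classical
  obtain ⟨t, ht⟩ := exists_components W'
  let R : Set X := ⋃ C ∈ t.filter (fun C : IrreducibleCloseds X => ((C : Set X) ∩ O).Nonempty), (C : Set X)
  have hR : IsClosed R := isClosed_biUnion_finset fun C _ => C.isClosed
  have hyR : y ∉ R := fun hyR => by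
    obtain ⟨C, hC, hyC⟩ := Set.mem_iUnion₂.1 hyR
    obtain ⟨hCt, hCO⟩ := Finset.mem_filter.1 hC
    obtain ⟨x, hxC, hxW⟩ := hcov C ⟨closure_minimal (Set.singleton_subset_iff.2 hyC) C.isClosed, hCO⟩
    exact (ht x).2 ⟨C, hCt, hxC⟩ hxW
  let V : Opens X := ⟨Rᶜ, hR.isOpen_compl⟩
  have hsub : O ⊓ V ≤ W' := fun x hx => by
    by_contra hxW
    obtain ⟨C, hC, hxC⟩ := (ht x).1 hxW
    exact hx.2 (Set.mem_biUnion (Finset.mem_filter.2 ⟨hC, x, hxC, hx.1⟩) hxC)
  obtain ⟨b', hb'⟩ := exists_extend_zero F n O V b (by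
    rw [← eres_eres F n hW' hsub b, h0, map_zero])
  have hmem : O ⊔ V ∈ T := ⟨hUO.trans le_sup_left, b', by
    rw [← eres_eres F n (le_sup_left : O ≤ O ⊔ V) hUO b', hb', hb]⟩
  exact hmax _ hmem (lt_of_le_of_ne le_sup_left fun e => hy (e.ge (Or.inr hyR)))

end Groth.Agent.CdP50
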