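import Groth.Agent.RD97.LES
import Mathlib.CategoryTheory.Abelian.Injective.Ext
import Mathlib.CategoryTheory.Adjunction.Additive
import Mathlib.Algebra.Homology.DerivedCategory.Ext.EnoughInjectives

/-!
Vanishing of `Ext` into the value of a right adjoint from vanishing of `Ext` into its derived functors.
-/

set_option autoImplicit false
universe w v v' u u'

open CategoryTheory CategoryTheory.Limits CategoryTheory.Abelian

namespace Groth.Agent.CdP50

variable {A : Type u} [Category.{v} A] [Abelian A] [HasExt.{w} A]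
  {B : Type u'} [Category.{v'} B] [Abelian B] [HasExt.{w} B] [EnoughInjectives B]
  {L : A ⥤ B} {R : B ⥤ A} [R.Additive] (adj : L ⊣ R) [PreservesFiniteLimits L] {Z : A} {Z' : B}
  (η : L.obj Z ≅ Z')

include adj η in
/-- A Leray vanishing. -/
theorem subsingleton_ext_right : ∀ (q : ℕ) (M : B), Subsingleton (Ext.{w} Z' M q) →
    (∀ b a : ℕ, 1 ≤ b → a + b + 1 = q → Subsingleton (Ext.{w} Z ((R.rightDerived b).obj M) a)) →
    Subsingleton (Ext.{w} Z (R.obj M) q)
  | 0, M, hM, _ => subsingleton_of_forall_eq 0 fun x => by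
    obtain ⟨φ, rfl⟩ := (Ext.mk₀_bijective _ _).2 x
    have h : η.inv ≫ (adj.homEquiv Z M).symm φ = 0 := (Ext.mk₀_bijective _ _).1 (hM.elim _ _)
    have h' : (adj.homEquiv Z M).symm φ = 0 := (cancel_epi η.inv).1 (h.trans comp_zero.symm)
    have := adj.left_adjoint_additive
    rw [show φ = 0 from (adj.homEquiv Z M).symm.injective (h'.trans (by simp [Adjunction.homEquiv_counit])),
      Ext.mk₀_zero]
  | q + 1, M, hM, hR => by
    let S : ShortComplex B :=
      ShortComplex.mk (Injective.ι M) (cokernel.π (Injective.ι M)) (cokernel.condition _)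
    have hS : S.ShortExact :=
      { exact := ShortComplex.exact_of_g_is_cokernel _ (cokernelIsCokernel _) }
    have hI : Injective S.X₂ := inferInstanceAs (Injective (Injective.under M))
    have : PreservesLimitsOfSize.{0, 0} R := adj.rightAdjoint_preservesLimits
    have : PreservesFiniteLimits R := PreservesLimitsOfSize.preservesFiniteLimits _
    have hl : (S.map R).Exact ∧ Mono (R.map S.f) :=
      (((Functor.preservesFiniteLimits_tfae R).out 3 0).1 this :
        ∀ S : ShortComplex B, S.ShortExact → (S.map R).Exact ∧ Mono (R.map S.f)) S hS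
    have := hl.2
    have : Mono (S.map R).f := hl.2
    let T := cokernel (R.map S.f)
    let π : R.obj S.X₂ ⟶ T := cokernel.π (R.map S.f)
    let ι : T ⟶ R.obj S.X₃ := cokernel.desc (R.map S.f) (R.map S.g) (S.map R).zero
    have : Mono ι := hl.1.mono_cokernelDesc
    have h1 : (ShortComplex.mk (R.map S.f) π (cokernel.condition _)).ShortExact :=
      { exact := ShortComplex.exact_of_g_is_cokernel _ (cokernelIsCokernel _) }
    obtain ⟨Δ⟩ := RD97.nonempty_derivedLES R
    let δ : R.obj S.X₃ ⟶ (R.rightDerived 1).obj M :=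
      R.rightDerivedZeroIsoSelf.inv.app S.X₃ ≫ Δ.δ S hS 0 1 rfl
    have hgδ : R.map S.g ≫ δ = 0 := by
      rw [← Category.assoc, R.rightDerivedZeroIsoSelf.inv.naturality S.g, Category.assoc, Δ.comp_δ, comp_zero]
    have hex : (ShortComplex.mk (R.map S.g) δ hgδ).Exact :=
      ShortComplex.exact_of_iso (ShortComplex.isoMk (S₁ := ShortComplex.mk _ _ (Δ.comp_δ S hS 0 1 rfl))
        (S₂ := ShortComplex.mk (R.map S.g) δ hgδ) (R.rightDerivedZeroIsoSelf.app S.X₂)
        (R.rightDerivedZeroIsoSelf.app S.X₃) (Iso.refl _) (R.rightDerivedZeroIsoSelf.hom.naturality S.g).symm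
        (by simp [δ])) (Δ.exact₃ S hS 0 1 rfl)
    have : Epi (Δ.δ S hS 0 1 rfl) :=
      (Δ.exact₁ S hS 0 1 rfl).epi_f ((R.isZero_rightDerived_obj_injective_succ 0 S.X₂).eq_of_tgt _ _)
    have : Epi δ := epi_comp _ _
    have hπι : π ≫ ι = R.map S.g := cokernel.π_desc _ _ _
    have hιδ : ι ≫ δ = 0 := by rw [← cancel_epi π, ← Category.assoc, hπι, hgδ, comp_zero]
    have h2 : (ShortComplex.mk ι δ hιδ).ShortExact :=
      { exact :=
          (ShortComplex.exact_iff_of_epi_of_isIso_of_mono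
            ({ τ₁ := π, τ₂ := 𝟙 _, τ₃ := 𝟙 _, comm₁₂ := by simpa using hπι, comm₂₃ := by simp } :
              ShortComplex.mk (R.map S.g) δ hgδ ⟶ ShortComplex.mk ι δ hιδ)).1 hex }
    have hRI : Injective (R.obj S.X₂) := Injective.injective_of_adjoint adj S.X₂
    refine subsingleton_of_forall_eq 0 fun x => ?_
    obtain ⟨t, rfl⟩ := Ext.covariant_sequence_exact₁ Z h1 x
      ((Ext.subsingleton_of_injective.{w} Z (R.obj S.X₂) q).elim _ _) rfl
    suffices ∃ y : Ext Z (R.obj S.X₂) q, y.comp (Ext.mk₀ π) (add_zero q) = t by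
      obtain ⟨y, rfl⟩ := this
      rw [Ext.comp_assoc_of_second_deg_zero, h1.comp_extClass, Ext.comp_zero]
    cases q with
    | zero =>
      obtain ⟨τ, rfl⟩ := (Ext.mk₀_bijective _ _).2 t
      let m := η.inv ≫ (adj.homEquiv Z S.X₃).symm (τ ≫ ι)
      obtain ⟨i, hi⟩ := Ext.covariant_sequence_exact₃ Z' hS (Ext.mk₀ m) rfl (hM.elim _ _)
      obtain ⟨i, rfl⟩ := (Ext.mk₀_bijective _ _).2 i
      rw [Ext.mk₀_comp_mk₀] at hi
      have hi' : i ≫ S.g = m := (Ext.mk₀_bijective _ _).1 hi
      refine ⟨Ext.mk₀ (adj.homEquiv Z S.X₂ (η.hom ≫ i)), ?_⟩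
      rw [Ext.mk₀_comp_mk₀]
      congr 1
      rw [← cancel_mono ι, Category.assoc, hπι, ← adj.homEquiv_naturality_right, Category.assoc, hi',
        Iso.hom_inv_id_assoc, Equiv.apply_symm_apply]
    | succ r =>
      refine ⟨0, ?_⟩
      rw [Ext.zero_comp]
      have hM' : Subsingleton (Ext.{w} Z' S.X₃ (r + 1)) := subsingleton_of_forall_eq 0 fun z => by
        obtain ⟨i, rfl⟩ := Ext.covariant_sequence_exact₃ Z' hS z rfl (hM.elim _ _)
        rw [(Ext.subsingleton_of_injective.{w} Z' S.X₂ r).elim i 0, Ext.zero_comp]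
      have h3 : Subsingleton (Ext.{w} Z (R.obj S.X₃) (r + 1)) := by
        refine subsingleton_ext_right (r + 1) S.X₃ hM' fun b a hb hab => ?_
        have : IsIso (Δ.δ S hS b (b + 1) rfl) := by
          have : Mono (Δ.δ S hS b (b + 1) rfl) := by
            refine (Δ.exact₃ S hS b (b + 1) rfl).mono_g ?_
            obtain ⟨b, rfl⟩ : ∃ c, b = c + 1 := ⟨b - 1, by omega⟩
            exact (R.isZero_rightDerived_obj_injective_succ b S.X₂).eq_of_src _ _
          have : Epi (Δ.δ S hS b (b + 1) rfl) :=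
            (Δ.exact₁ S hS b (b + 1) rfl).epi_f ((R.isZero_rightDerived_obj_injective_succ b S.X₂).eq_of_tgt _ _)
          exact isIso_of_mono_of_epi _
        have h := hR (b + 1) a (by omega) (by omega)
        refine subsingleton_of_forall_eq 0 fun z => ?_
        rw [← Ext.comp_mk₀_id z, ← IsIso.hom_inv_id (Δ.δ S hS b (b + 1) rfl), ← Ext.mk₀_comp_mk₀,
          ← Ext.comp_assoc_of_second_deg_zero, h.elim (z.comp (Ext.mk₀ (Δ.δ S hS b (b + 1) rfl)) (add_zero a)) 0,
          Ext.zero_comp]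
      have h4 : Subsingleton (Ext.{w} Z ((R.rightDerived 1).obj M) r) := hR 1 r le_rfl (by omega)
      obtain ⟨s, hs⟩ := Ext.covariant_sequence_exact₁ Z h2 t (h3.elim _ _) rfl
      rw [← hs, h4.elim s 0, Ext.zero_comp]

end Groth.Agent.CdP50
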