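import Groth.Agent.CdP50.PointFibre
import Groth.Agent.CdP50.WeakLeray
import Groth.Agent.E4O.GenOpen
import Groth.Agent.Cons51.Supp
import Groth.Agent.Cons51.Noeth
import Groth.Agent.Unr55.Et.StrictHensH
import Groth.Agent.S8560
import Groth.Agent.S0538

/-!
Vanishing of the cohomology of torsion sheaves above a dimension function.
-/

set_option autoImplicit false
set_option backward.isDefEq.respectTransparency.types false
universe u

open CategoryTheory CategoryTheory.Limits AlgebraicGeometry Opposite TopologicalSpace CategoryTheory.Abelian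
open Groth.Agent.Unr55.EtSh Groth.Agent.EtCore45

namespace Groth.Agent.CdP50

variable {X : Scheme.{u}}

theorem isZero_stalk_of_notMem_supp {F : EtCoh.Ab X} {Ω : Type u} [Field Ω] [IsSepClosed Ω]
    (η : Spec (CommRingCat.of Ω) ⟶ X) (h : η default ∉ EtPBC.supp F) : IsZero ((EtCoh.stalk η).obj F) := by
  by_contra hne
  exact h ⟨Ω, inferInstance, inferInstance, η,
    Set.eq_singleton_iff_unique_mem.2 ⟨⟨default, rfl⟩, by rintro _ ⟨a, rfl⟩; rw [Subsingleton.elim a default]⟩, hne⟩

theorem isZero_of_supp_empty {F : EtCoh.Ab X} (h : EtPBC.supp F = ∅) : IsZero F :=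
  EtCore45.isZero_of_stalks F fun _ _ _ η => isZero_stalk_of_notMem_supp η (by simp [h])

theorem supp_subset_of_mono {F G : EtCoh.Ab X} (i : G ⟶ F) [Mono i] : EtPBC.supp G ⊆ EtPBC.supp F := by
  rintro x ⟨Ω, _, _, η, hη, hne⟩
  refine ⟨Ω, inferInstance, inferInstance, η, hη, fun hz => hne ?_⟩
  have : Mono ((EtCoh.stalk η).map i) := inferInstance
  exact IsZero.of_mono ((EtCoh.stalk η).map i) hz

theorem supp_subset_of_epi {F G : EtCoh.Ab X} (p : F ⟶ G) [Epi p] : EtPBC.supp G ⊆ EtPBC.supp F := by
  rintro x ⟨Ω, _, _, η, hη, hne⟩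
  refine ⟨Ω, inferInstance, inferInstance, η, hη, fun hz => hne ?_⟩
  have : Epi ((EtCoh.stalk η).map p) := inferInstance
  exact IsZero.of_epi ((EtCoh.stalk η).map p) hz

theorem isLTorsion_of_epi {L : Set ℕ} {F G : EtCoh.Ab X} (p : F ⟶ G) [Epi p]
    (h : EtAcyc.IsLTorsion L F) : EtAcyc.IsLTorsion L G :=
  EtTor93.isLTorsion_of_stalks fun K _ _ η t => by
    obtain ⟨a, rfl⟩ := (AddCommGrpCat.epi_iff_surjective ((EtCoh.stalk η).map p)).1 inferInstance t
    obtain ⟨m, hm, hs⟩ := EtTor93.stalk_torsion h η a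
    exact ⟨m, hm, by rw [← map_nsmul, hs, map_zero]⟩

/-- A torsion sheaf has vanishing cohomology when its constructible subsheaves do. -/
theorem subsingleton_H_of_constructible [IsNoetherian X] {L : Set ℕ} {F : EtCoh.Ab X}
    (hF : EtAcyc.IsLTorsion L F) (q : ℕ)
    (h : ∀ G : EtCoh.Ab X, EtPBC.IsConstructible G → EtAcyc.IsLTorsion L G → EtPBC.supp G ⊆ EtPBC.supp F →
      Subsingleton (EtCoh.H X G q)) : Subsingleton (EtCoh.H X F q) := by
  obtain ⟨J, _, _, D, c, hc, ⟨e⟩, hD⟩ := Cons51.exists_isColimit (Depth22.generating_lTorsion hF)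
  have := Unr55.HColim.preservesColimitsOfShape_HF (X := X) J q
  refine subsingleton_of_forall_eq 0 fun x => ?_
  have hz : IsZero ((EtCoh.HF X q).obj F) := by
    refine IsZero.of_iso ?_ ((EtCoh.HF X q).mapIso e).symm
    refine (IsZero.iff_id_eq_zero _).2 ((isColimitOfPreserves (EtCoh.HF X q) hc).hom_ext fun j => ?_)
    let f : D.obj j ⟶ F := c.ι.app j ≫ e.hom
    have h1 := h (Abelian.image f) (Cons51.isConstructible_of_epi (Abelian.factorThruImage f) (hD j).1)
      (isLTorsion_of_epi (Abelian.factorThruImage f) (hD j).2) (supp_subset_of_mono (Abelian.image.ι f))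
    have h2 : (EtCoh.HF X q).map (c.ι.app j) =
        (EtCoh.HF X q).map (Abelian.factorThruImage f) ≫ (EtCoh.HF X q).map (Abelian.image.ι f ≫ e.inv) := by
      rw [← Functor.map_comp, ← Category.assoc, Abelian.image.fac, Category.assoc, Iso.hom_inv_id, Category.comp_id]
    change (EtCoh.HF X q).map (c.ι.app j) ≫ 𝟙 _ = (EtCoh.HF X q).map (c.ι.app j) ≫ 0
    rw [Category.comp_id, comp_zero, h2,
      (@AddCommGrpCat.isZero_of_subsingleton ((EtCoh.HF X q).obj (Abelian.image f)) h1).eq_of_tgt
        ((EtCoh.HF X q).map (Abelian.factorThruImage f)) 0, zero_comp]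
  exact (AddCommGrpCat.subsingleton_of_isZero hz).elim _ _

/-- Outside the closure of the point, the direct image has no stalks. -/
theorem notMem_supp_push_of_not_specializes (x : X) (M : EtCoh.Ab (Spec (X.residueField x))) {y : X}
    (h : ¬ x ⤳ y) : y ∉ EtPBC.supp ((EtCoh.push (X.fromSpecResidueField x)).obj M) := by
  rintro ⟨Ω, _, _, η, hη, hne⟩
  refine hne ((isZero_stalk_iff η _).2 fun V s σ => ?_)
  have hy : η default = y := hη.le ⟨default, rfl⟩
  let O : V.left.Opens := V.hom ⁻¹ᵁ ⟨(closure {x})ᶜ, isClosed_closure.isOpen_compl⟩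
  have hs : hom η s default ∈ O := by
    have h1 : hom η s ≫ V.hom = η := Over.w s
    change V.hom (hom η s default) ∉ closure {x}
    rw [← Scheme.Hom.comp_apply, h1, hy, ← specializes_iff_mem_closure]
    exact h
  refine ⟨_, openSubι V O, ptOpen O s hs, map_ptOpen O s hs, ?_⟩
  have : IsEmpty ((EtCoh.bc (X.fromSpecResidueField x)).obj (openSub V O)).left := ⟨fun p => by
    let p' : (pullback (openSub V O).hom (X.fromSpecResidueField x) : Scheme.{u}) := p
    have h1 : (pullback.fst (openSub V O).hom (X.fromSpecResidueField x) ≫ (openSub V O).hom) p' =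
        (pullback.snd (openSub V O).hom (X.fromSpecResidueField x) ≫ X.fromSpecResidueField x) p' := by
      rw [pullback.condition]
    let o : O.toScheme := pullback.fst (openSub V O).hom (X.fromSpecResidueField x) p'
    refine (show O.ι o ∈ O from O.range_ι.le ⟨o, rfl⟩) ?_
    change V.hom (O.ι o) ∈ closure {x}
    exact subset_closure (h1.trans (X.fromSpecResidueField_apply x _))⟩
  exact sect_eq_zero_of_isEmpty M _

variable [IsNoetherian X] {ℓ : ℕ} (φ : X → ℕ)
  (h1 : ∀ x : X, Dix.CohDimLEAt (Spec (X.residueField x)) ℓ (φ x))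
  (h2 : ∀ (x y : X) (hxy : x ⤳ y), x ≠ y →
      ∀ (R : Type u) [CommRing R] [IsLocalRing R] [Algebra (X.presheaf.stalk y) R]
      [IsLocalHom (algebraMap (X.presheaf.stalk y) R)] [Hensel.IsStrictHenselization (X.presheaf.stalk y) R],
      ∀ P ∈ ((RingHom.ker (Cyc.specMap y x hxy)).map (algebraMap (X.presheaf.stalk y) R)).minimalPrimes,
        ∃ d : ℕ, d + 1 + φ y ≤ φ x ∧ Dix.CohDimLEAt (Spec (CommRingCat.of (FractionRing (R ⧸ P)))) ℓ d)

include h2 in
theorem phi_lt {x y : X} (hxy : x ⤳ y) (hne : x ≠ y) : φ y < φ x := by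
  obtain ⟨R, _, _, _, _, hR⟩ := S0537.result (X.presheaf.stalk y)
  have := hR
  let I := (RingHom.ker (Cyc.specMap y x hxy)).map (algebraMap (X.presheaf.stalk y) R)
  have hI : I ≤ IsLocalRing.maximalIdeal R := by
    refine (Ideal.map_mono (IsLocalRing.le_maximalIdeal (RingHom.ker_ne_top _))).trans ?_
    exact (S0538.result (X.presheaf.stalk y) R).le
  obtain ⟨P, hP, -⟩ := Ideal.exists_minimalPrimes_le hI
  obtain ⟨d, hd, -⟩ := h2 x y hxy hne R P hP
  omega

include h2 in
/-- Where the derived direct images along a point may have stalks. -/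
theorem supp_Rpush_subset (hℓ : ℓ.Prime) (x : X) [QuasiCompact (X.fromSpecResidueField x)]
    [QuasiSeparated (X.fromSpecResidueField x)] (M : EtCoh.Ab (Spec (X.residueField x)))
    (hM : EtAcyc.IsLTorsion {ℓ} M) (b : ℕ) (hb : 1 ≤ b) :
    ∀ y ∈ EtPBC.supp ((EtCoh.Rpush (X.fromSpecResidueField x) b).obj M), φ y + b < φ x := by
  intro y hy
  by_contra hlt
  rcases eq_or_ne x y with rfl | hne
  · refine notMem_supp_Rpush hℓ x x 0 (fun hxy R _ _ _ _ hR P hP => ?_) M hM b hb hy
    have hm : (RingHom.ker (Cyc.specMap x x hxy)).map (algebraMap (X.presheaf.stalk x) R) =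
        IsLocalRing.maximalIdeal R := by
      rw [← S0538.result (X.presheaf.stalk x) R]
      congr 1
      have : Cyc.specMap x x hxy = (X.residue x).hom := by
        change (X.presheaf.stalkSpecializes hxy ≫ X.residue x).hom = _
        rw [show X.presheaf.stalkSpecializes hxy = 𝟙 _ from TopCat.Presheaf.stalkSpecializes_refl _ _,
          Category.id_comp]
      rw [this]
      exact IsLocalRing.ker_residue
    rw [hm, Ideal.minimalPrimes_eq_subsingleton_self] at hP
    obtain rfl : P = IsLocalRing.maximalIdeal R := hP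
    have := hR.isSepClosure.sep_closed
    intro F _ q hq
    let e : FractionRing (R ⧸ IsLocalRing.maximalIdeal R) ≃+* IsLocalRing.ResidueField R :=
      ((IsLocalization.atUnits (R ⧸ IsLocalRing.maximalIdeal R) (nonZeroDivisors (R ⧸ IsLocalRing.maximalIdeal R))
        (S := FractionRing (R ⧸ IsLocalRing.maximalIdeal R)) fun z hz =>
          (letI := Ideal.Quotient.field (IsLocalRing.maximalIdeal R)
           isUnit_iff_ne_zero.2 (nonZeroDivisors.ne_zero hz))).symm).toRingEquiv
    let k := FractionRing (R ⧸ IsLocalRing.maximalIdeal R)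
    have : IsSepClosed k := IsSepClosed.of_exists_root _ fun p hp hirr hsep => by
      obtain ⟨z, hz⟩ := IsSepClosed.exists_root (p.map e.toRingHom) (by
        rw [Polynomial.degree_map]; exact (Polynomial.degree_pos_of_irreducible hirr).ne') hsep.map
      refine ⟨e.symm z, e.injective ?_⟩
      show e.toRingHom (p.eval (e.symm z)) = e 0
      rw [map_zero, ← Polynomial.eval_map_apply]
      simpa using hz
    have : IsSepClosed (IsLocalRing.ResidueField k) := IsSepClosed.of_exists_root _ fun p hp hirr hsep => by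
      let r : k ≃+* IsLocalRing.ResidueField k :=
        RingEquiv.ofBijective (IsLocalRing.residue k) ⟨(IsLocalRing.residue k).injective, IsLocalRing.residue_surjective⟩
      obtain ⟨z, hz⟩ := IsSepClosed.exists_root (p.map r.symm.toRingHom) (by
        rw [Polynomial.degree_map]; exact (Polynomial.degree_pos_of_irreducible hirr).ne') hsep.map
      refine ⟨r z, r.symm.injective ?_⟩
      show r.symm.toRingHom (p.eval (r z)) = r.symm 0
      rw [map_zero, ← Polynomial.eval_map_apply]
      simpa using hz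
    exact Unr55.EtSh.H_subsingleton k F q hq
  · refine notMem_supp_Rpush hℓ x y (φ x - φ y - 1) (fun hxy R _ _ _ _ _ P hP => ?_) M hM b ?_ hy
    · obtain ⟨d, hd, hcd⟩ := h2 x y hxy hne R P hP
      exact fun F hF q hq => hcd F hF q (by omega)
    · by_cases hxy : x ⤳ y
      · have := phi_lt φ h2 hxy hne
        omega
      · exact absurd hy (notMem_supp_Rpush hℓ x y 0 (fun h => absurd h hxy) M hM b hb)

include h1 h2 in
/-- Vanishing above a dimension function. -/
theorem subsingleton_H_of_dimFun (hℓ : ℓ.Prime) : ∀ (N : ℕ) (F : EtCoh.Ab X), EtAcyc.IsLTorsion {ℓ} F →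
    (∀ x ∈ EtPBC.supp F, φ x < N) → ∀ q, N ≤ q → Subsingleton (EtCoh.H X F q) := by
  intro N
  induction N using Nat.strong_induction_on with
  | _ N IH =>
  intro F₀ hF₀ hN₀ q hq
  refine subsingleton_H_of_constructible hF₀ q fun F hFc hF hsub => ?_
  have hN : ∀ x ∈ EtPBC.supp F, φ x < N := fun x hx => hN₀ x (hsub hx)
  clear hsub
  suffices ∀ (C : Closeds X) (F : EtCoh.Ab X), EtPBC.IsConstructible F → EtAcyc.IsLTorsion {ℓ} F →
      (∀ x ∈ EtPBC.supp F, φ x < N) → closure (EtPBC.supp F) = C → Subsingleton (EtCoh.H X F q) from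
    this ⟨closure (EtPBC.supp F), isClosed_closure⟩ F hFc hF hN rfl
  intro C
  induction C using WellFoundedLT.induction with
  | _ C ihC =>
  intro F hFc hF hN hC
  rcases Set.eq_empty_or_nonempty (EtPBC.supp F) with he | hne
  · exact subsingleton_of_isZero (isZero_of_supp_empty he) q
  obtain ⟨x, hx, hxmax⟩ : ∃ x ∈ EtPBC.supp F, ∀ z ∈ EtPBC.supp F, φ z ≤ φ x := by
    have hfin : (φ '' EtPBC.supp F).Finite := (Set.finite_lt_nat N).subset (by rintro _ ⟨z, hz, rfl⟩; exact hN z hz)
    obtain ⟨_, ⟨⟨x, hx, rfl⟩, hmax⟩⟩ := hfin.exists_maximal (hne.image φ)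
    exact ⟨x, hx, fun z hz => le_of_not_gt fun hlt => absurd (hmax ⟨z, hz, rfl⟩ hlt.le) (not_le.2 hlt)⟩
  let j := X.fromSpecResidueField x
  have : NoetherianSpace (Spec (X.residueField x)) := j.isEmbedding.isInducing.noetherianSpace
  have : QuasiCompact j := quasiCompact_of_noetherianSpace_source j
  have : QuasiSeparated j := inferInstance
  let M := (EtCoh.pull j).obj F
  have hM : EtAcyc.IsLTorsion {ℓ} M := Depth22.isLTorsion_pull j hF
  let u : F ⟶ (EtCoh.push j).obj M := (EtCoh.pullPushAdj j).unit.app F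
  -- stalks over `x`
  have hbij : ∀ (Ω : Type u) [Field Ω] [IsSepClosed Ω] (η : Spec (CommRingCat.of Ω) ⟶ X), η default = x →
      Function.Bijective ((EtCoh.stalk η).map u) := fun Ω _ _ η hη => unit_point_stalk_bijective x F η hη
  let K := kernel u
  have hKsub : EtPBC.supp K ⊆ EtPBC.supp F := supp_subset_of_mono (kernel.ι u)
  have hKx : x ∉ EtPBC.supp K := by
    rintro ⟨Ω, _, _, η, hη, hne⟩
    refine hne ?_
    have hηx : η default = x := hη.le ⟨default, rfl⟩
    have : Mono ((EtCoh.stalk η).map (kernel.ι u)) := inferInstance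
    have h0 : (EtCoh.stalk η).map (kernel.ι u) ≫ (EtCoh.stalk η).map u = 0 := by
      rw [← Functor.map_comp, kernel.condition, Functor.map_zero]
    refine IsZero.of_mono_eq_zero ((EtCoh.stalk η).map (kernel.ι u)) (ConcreteCategory.hom_ext _ _ fun a => ?_)
    exact (hbij Ω η hηx).1 ((ConcreteCategory.congr_hom h0 a).trans (map_zero _).symm)
  have hKc := Cons51.isConstructible_of_mono (kernel.ι u) hFc
  have hxK : x ∉ closure (EtPBC.supp K) := fun hmem => by
    obtain ⟨z, hz, hzx⟩ := E4O.exists_specializes_of_mem_closure_isLocallyConstructible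
      (Cons51.isLocallyConstructible_supp K hKc) hmem
    have hne' : z ≠ x := fun e => hKx (e ▸ hz)
    exact absurd (phi_lt φ h2 hzx hne') (not_lt.2 (hxmax z (hKsub hz)))
  have hK : Subsingleton (EtCoh.H X K q) := by
    refine ihC ⟨closure (EtPBC.supp K), isClosed_closure⟩ ?_ K hKc (Depth22.isLTorsion_of_mono (kernel.ι u) hF)
      (fun z hz => hN z (hKsub hz)) rfl
    refine lt_of_le_of_ne (show closure (EtPBC.supp K) ⊆ C from hC ▸ closure_mono hKsub) fun e => hxK ?_
    rw [show closure (EtPBC.supp K) = (C : Set X) from congrArg SetLike.coe e, ← hC]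
    exact subset_closure hx
  let I := cokernel (kernel.ι u)
  let v : I ⟶ (EtCoh.push j).obj M := cokernel.desc _ u (kernel.condition u)
  have : Mono v := inferInstanceAs (Mono (Abelian.factorThruCoimage u))
  let Q := cokernel v
  have hQ : ∀ y ∈ EtPBC.supp Q, φ y < φ x := by
    intro y hy
    have hy' : y ∈ EtPBC.supp ((EtCoh.push j).obj M) := supp_subset_of_epi (cokernel.π v) hy
    have hxy : x ⤳ y := by_contra fun h => notMem_supp_push_of_not_specializes x M h hy'
    refine phi_lt φ h2 hxy ?_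
    rintro rfl
    obtain ⟨Ω, _, _, η, hη, hne⟩ := hy
    have hηx : η default = x := hη.le ⟨default, rfl⟩
    refine hne ?_
    have : Epi ((EtCoh.stalk η).map (cokernel.π v)) := inferInstance
    refine IsZero.of_epi_eq_zero ((EtCoh.stalk η).map (cokernel.π v)) (ConcreteCategory.hom_ext _ _ fun a => ?_)
    obtain ⟨a, rfl⟩ := (hbij Ω η hηx).2 a
    have h0 : u ≫ cokernel.π v = 0 := by
      rw [← cokernel.π_desc (kernel.ι u) u (kernel.condition u), Category.assoc, cokernel.condition, comp_zero]
    refine (ConcreteCategory.congr_hom ((EtCoh.stalk η).map_comp u (cokernel.π v)) a).symm.trans ?_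
    rw [h0, Functor.map_zero]
    rfl
  have hjM : Subsingleton (EtCoh.H X ((EtCoh.push j).obj M) q) := by
    have := preservesFiniteLimits_pull j
    refine subsingleton_ext_right (EtCoh.pullPushAdj j) (EtCore.pullConst j ℤ) q M
      (h1 x M (primary_of_isLTorsion hM) q (lt_of_lt_of_le (hN x hx) hq)) fun b a hb hab => ?_
    have hs := supp_Rpush_subset φ h2 hℓ x M hM b hb
    have hxN := hN x hx
    exact IH (N - b - 1) (by omega) ((EtCoh.Rpush j b).obj M) (S8560.result j {ℓ} M hM b)
      (fun y hy => by have := hs y hy; omega) a (by omega)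
  have hS2 : (ShortComplex.mk v (cokernel.π v) (cokernel.condition _)).ShortExact :=
    { exact := ShortComplex.exact_of_g_is_cokernel _ (cokernelIsCokernel _) }
  have hI : Subsingleton (EtCoh.H X I q) := by
    have hxN := hN x hx
    obtain ⟨q, rfl⟩ : ∃ m, q = m + 1 := ⟨q - 1, by omega⟩
    have hQ0 : Subsingleton (EtCoh.H X Q q) :=
      IH (N - 1) (by omega) Q (isLTorsion_of_epi (cokernel.π v) (Depth22.isLTorsion_push j hM))
        (fun y hy => by have := hQ y hy; omega) q (by omega)
    refine subsingleton_of_forall_eq 0 fun z => ?_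
    obtain ⟨w, rfl⟩ := Ext.covariant_sequence_exact₁ _ hS2 z (hjM.elim _ _) rfl
    rw [hQ0.elim w 0]
    exact Ext.zero_comp _ _ _ _ _
  exact subsingleton_mid
    (show (ShortComplex.mk (kernel.ι u) (cokernel.π (kernel.ι u)) (cokernel.condition _)).ShortExact from
      { exact := ShortComplex.exact_of_g_is_cokernel _ (cokernelIsCokernel _) }) hK hI

end Groth.Agent.CdP50
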