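import Groth.Agent.CdP50.Trdeg
import Groth.Agent.CdP50.PointDev
import Groth.Agent.WC97.Dim
import Groth.Agent.E4O.FibreDim
import Groth.Agent.S0537
/-!
The fields of strict localizations of schemes of finite type over a field.
-/

set_option autoImplicit false
set_option backward.isDefEq.respectTransparency.types false
universe u
open CategoryTheory CategoryTheory.Limits AlgebraicGeometry Opposite TopologicalSpace
open IsLocalRing
namespace Groth.Agent.CdP50

/-- A strictly henselian local algebra over a field contains a separably closed field whose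
transcendence degree is that of the residue field. -/
theorem exists_sepClosed_subfield (k A : Type u) [Field k] [CommRing A] [IsLocalRing A] [Algebra k A]
    (R : Type u) [CommRing R] [IsLocalRing R] [Algebra A R] [IsLocalHom (algebraMap A R)]
    [Hensel.IsStrictHenselization A R] :
    ∃ (E : Type u) (_ : Field E) (_ : IsSepClosed E) (_ : Algebra k E) (e : E →+* R),
      (∀ a : k, e (algebraMap k E a) = algebraMap A R (algebraMap k A a)) ∧
      Algebra.trdeg k E = Algebra.trdeg k (ResidueField A) := by
  classical
  obtain ⟨T, hT⟩ := exists_isTranscendenceBasis k (ResidueField A)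
  choose a ha using fun t : T => IsLocalRing.residue_surjective (R := A) (t : ResidueField A)
  let ev : MvPolynomial T k →ₐ[k] A := MvPolynomial.aeval a
  have hev : ∀ p, residue A (ev p) = MvPolynomial.aeval (fun t : T => (t : ResidueField A)) p := fun p => by
    rw [show (fun t : T => (t : ResidueField A)) = fun t => IsScalarTower.toAlgHom k A (ResidueField A) (a t) from
      funext fun t => (ha t).symm, ← MvPolynomial.comp_aeval_apply]
    rfl
  have hu : ∀ p : nonZeroDivisors (MvPolynomial T k), IsUnit (ev (p : MvPolynomial T k)) := fun p => by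
    by_contra h
    have h0 := (residue_eq_zero_iff _).2 h
    rw [hev] at h0
    exact nonZeroDivisors.ne_zero p.2 (hT.1 (h0.trans (map_zero _).symm))
  let F := FractionRing (MvPolynomial T k)
  let ι : F →+* A := IsLocalization.lift (g := ev.toRingHom) hu
  obtain ⟨E, _, _, _, _, hE⟩ := S0537.result F
  have := hE
  have hsepE := hE.isSepClosure
  have hEf : IsField E := by
    rw [isField_iff_maximalIdeal_eq, ← S0538.result F E, isField_iff_maximalIdeal_eq.1 (Field.toIsField F), Ideal.map_bot]
  let iR : F →+* R := (algebraMap A R).comp ι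
  have : IsLocalHom iR := ⟨fun z hz => isUnit_iff_ne_zero.2 fun h0 => by rw [h0, map_zero] at hz; exact not_isUnit_zero hz⟩
  let aR : Algebra (ResidueField F) (ResidueField R) := (ResidueField.map iR).toAlgebra
  have hR : HenselianLocalRing R := Hensel.IsStrictHenselization.henselian (R := A)
  have : IsSepClosed (ResidueField R) := (Hensel.IsStrictHenselization.isSepClosure (R := A) (S := R)).sep_closed
  have : Algebra.IsSeparable (ResidueField F) (ResidueField E) := hsepE.separable
  let τ : ResidueField E →ₐ[ResidueField F] ResidueField R := IsSepClosed.lift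
  obtain ⟨e, ⟨he, -⟩, -⟩ := Hensel.IsStrictHenselization.universal (R := F) (S := E) R iR τ.toRingHom
    (RingHom.ext fun z => τ.commutes z)
  let : Field E := hEf.toField
  let : Algebra k E := ((algebraMap F E).comp (algebraMap k F)).toAlgebra
  have : IsScalarTower k F E := IsScalarTower.of_algebraMap_eq fun _ => rfl
  have hsc : IsSepClosed E := IsSepClosed.of_exists_root _ fun p hp hirr hsep => by
    have hb : Function.Bijective (residue E) :=
      ⟨(RingHom.injective_iff_ker_eq_bot _).2 (by rw [ker_residue, isField_iff_maximalIdeal_eq.1 hEf]),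
        residue_surjective⟩
    let r : E ≃+* ResidueField E := RingEquiv.ofBijective _ hb
    have := hsepE.sep_closed
    obtain ⟨z, hz⟩ := IsSepClosed.exists_root (p.map r.toRingHom) (by
      rw [Polynomial.degree_map]; exact (Polynomial.degree_pos_of_irreducible hirr).ne') hsep.map
    refine ⟨r.symm z, r.injective ?_⟩
    show r.toRingHom (p.eval (r.symm z)) = r 0
    rw [map_zero, ← Polynomial.eval_map_apply]
    simpa using hz
  refine ⟨E, inferInstance, hsc, inferInstance, e, fun c => ?_, ?_⟩
  · refine (RingHom.congr_fun he (algebraMap k F c)).trans (congrArg (algebraMap A R) ?_)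
    rw [IsScalarTower.algebraMap_apply k (MvPolynomial T k) F, IsLocalization.lift_eq]
    exact ev.commutes c
  · have : Algebra.IsAlgebraic F E := by
      have hb : Function.Bijective (residue E) :=
        ⟨(RingHom.injective_iff_ker_eq_bot _).2 (by rw [ker_residue, isField_iff_maximalIdeal_eq.1 hEf]),
          residue_surjective⟩
      refine ⟨fun z => ?_⟩
      obtain ⟨p, hp, hp0⟩ := (Algebra.IsIntegral.isIntegral (R := ResidueField F) (residue E z))
      obtain ⟨q, rfl, -, hq⟩ := Polynomial.lifts_and_natDegree_eq_and_monic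
        (Polynomial.map_surjective _ residue_surjective p : p ∈ Polynomial.lifts (residue F)) hp
      refine IsIntegral.isAlgebraic ⟨q, hq, hb.1 ?_⟩
      rw [map_zero, Polynomial.hom_eval₂]
      rw [Polynomial.eval₂_map] at hp0
      exact hp0
    have : Algebra.IsAlgebraic (MvPolynomial T k) F := IsLocalization.isAlgebraic F (nonZeroDivisors (MvPolynomial T k))
    rw [← trdeg_add_eq k F (A := E), trdeg_eq_zero (R := F) (A := E), add_zero, ← trdeg_add_eq k (MvPolynomial T k) (A := F),
      trdeg_eq_zero (R := MvPolynomial T k) (A := F), add_zero, MvPolynomial.trdeg_of_isDomain, Cardinal.lift_id,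
      hT.cardinalMk_eq_trdeg]

variable {k : Type u} [Field k] {X : Scheme.{u}} (f : X ⟶ Spec (CommRingCat.of k)) [LocallyOfFiniteType f]

theorem fdeg_eq_tdegN (x : X) : E4O.fdeg f x = WC97.tdegN f x := by
  have h : closure ({x} : Set X) ∩ f ⁻¹' {f x} = closure {x} :=
    Set.inter_eq_left.2 fun z _ => Subsingleton.elim (α := PrimeSpectrum k) _ _
  rw [E4O.fdeg, h, WC97.topologicalKrullDim_closure f x]
  rfl

theorem tdegN_lt {x y : X} (hxy : x ⤳ y) (hne : x ≠ y) : WC97.tdegN f y < WC97.tdegN f x := by
  rw [← fdeg_eq_tdegN f, ← fdeg_eq_tdegN f]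
  exact E4O.fdeg_lt (f := f) hxy (Subsingleton.elim (α := PrimeSpectrum k) _ _) hne

/-- The fields of a strict localization at `y` over `x` have dimension at most the difference of the
transcendence degrees. -/
theorem cohDimLEAt_frac_of_finiteType [IsLocallyNoetherian X] {ℓ : ℕ} (hℓ : ℓ.Prime) {x y : X} (hxy : x ⤳ y)
    (R : Type u) [CommRing R] [IsLocalRing R] [Algebra (X.presheaf.stalk y) R]
    [IsLocalHom (algebraMap (X.presheaf.stalk y) R)] [Hensel.IsStrictHenselization (X.presheaf.stalk y) R]
    (P : Ideal R) (hP : P ∈ ((RingHom.ker (Cyc.specMap y x hxy)).map (algebraMap (X.presheaf.stalk y) R)).minimalPrimes) :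
    haveI := hP.1.1
    Dix.CohDimLEAt (Spec (CommRingCat.of (FractionRing (R ⧸ P)))) ℓ (WC97.tdegN f x - WC97.tdegN f y) := by
  have := hP.1.1
  let A := X.presheaf.stalk y
  let L := FractionRing (R ⧸ P)
  let ks : k →+* A := (Spec.preimage (X.fromSpecStalk y ≫ f)).hom
  have hksSpec : Spec.map (CommRingCat.ofHom ks) = X.fromSpecStalk y ≫ f := Spec.map_preimage _
  have hky : WC97.kStr f y = (residue A).comp ks := by
    have : CommRingCat.ofHom (WC97.kStr f y) = CommRingCat.ofHom ks ≫ X.residue y := by
      apply Spec.map_injective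
      rw [Spec.map_comp, WC97.kStr_spec, hksSpec]
      rfl
    exact congrArg CommRingCat.Hom.hom this
  have hkx : WC97.kStr f x = (Cyc.specMap y x hxy).comp ks := by
    have : CommRingCat.ofHom (WC97.kStr f x) = CommRingCat.ofHom ks ≫ CommRingCat.ofHom (Cyc.specMap y x hxy) := by
      apply Spec.map_injective
      rw [Spec.map_comp, WC97.kStr_spec, hksSpec, ← Category.assoc]
      congr 1
      change _ = Spec.map (X.presheaf.stalkSpecializes hxy ≫ X.residue x) ≫ _
      rw [Spec.map_comp, Category.assoc, Scheme.SpecMap_stalkSpecializes_fromSpecStalk]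
      rfl
    exact congrArg CommRingCat.Hom.hom this
  let : Algebra k A := ks.toAlgebra
  obtain ⟨E, _, _, _, e, he, htr⟩ := exists_sepClosed_subfield k A R
  obtain ⟨_, halg, hj⟩ := exists_algebraic_frac hxy R P hP
  let θ : R →+* L := (algebraMap (R ⧸ P) L).comp (Ideal.Quotient.mk P)
  let : Algebra E L := (θ.comp e).toAlgebra
  let : Algebra k (X.residueField x) := (WC97.kStr f x).toAlgebra
  let aL : Algebra k L := (θ.comp ((algebraMap A R).comp ks)).toAlgebra
  have : IsScalarTower k E L := IsScalarTower.of_algebraMap_eq fun c => (congrArg θ (he c)).symm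
  have : IsScalarTower k (X.residueField x) L := IsScalarTower.of_algebraMap_eq fun c =>
    ((congrArg (algebraMap (X.residueField x) L) (RingHom.congr_fun hkx c)).trans (hj (ks c))).symm
  have hx : Algebra.trdeg k (X.residueField x) = (WC97.tdegN f x : Cardinal.{u}) := WC97.tdeg_eq_natCast f x
  have hy : Algebra.trdeg k (ResidueField A) = (WC97.tdegN f y : Cardinal.{u}) := by
    refine Eq.trans ?_ (WC97.tdeg_eq_natCast f y)
    unfold WC97.tdeg
    rw [hky]
    rfl
  have h1 := trdeg_add_eq k E (A := L)
  have h2 := trdeg_add_eq k (X.residueField x) (A := L)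
  rw [htr, hy] at h1
  rw [hx, trdeg_eq_zero (R := X.residueField x) (A := L), add_zero] at h2
  rw [← h2] at h1
  suffices h : Algebra.trdeg E L ≤ (WC97.tdegN f x - WC97.tdegN f y : ℕ) by
    simpa using cohDimLEAt_of_trdeg hℓ _ E (cohDimLEAt_sepClosed E ℓ) L h
  have hfin : Algebra.trdeg E L < Cardinal.aleph0 :=
    lt_of_le_of_lt (h1 ▸ le_add_self) (Cardinal.natCast_lt_aleph0)
  obtain ⟨m, hm⟩ := Cardinal.lt_aleph0.1 hfin
  rw [hm] at h1 ⊢
  have h1' : WC97.tdegN f y + m = WC97.tdegN f x := by exact_mod_cast h1
  exact_mod_cast (show m ≤ WC97.tdegN f x - WC97.tdegN f y by omega)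

end Groth.Agent.CdP50

namespace Groth.Agent.CdP50

variable {k : Type u} [Field k] {X : Scheme.{u}} (f : X ⟶ Spec (CommRingCat.of k)) [LocallyOfFiniteType f] [QuasiCompact f]

include f in
/-- The cohomological dimension of a scheme of finite type over a field. -/
theorem cohDimLEAt_of_finiteType {ℓ e n : ℕ} (hℓ : ℓ.Prime) (he : Dix.CohDimLEAt (Spec (CommRingCat.of k)) ℓ e)
    (hn : topologicalKrullDim X ≤ n) : Dix.CohDimLEAt X ℓ (2 * n + e) := by
  have : IsLocallyNoetherian X := LocallyOfFiniteType.isLocallyNoetherian f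
  have : CompactSpace X := QuasiCompact.compactSpace_of_compactSpace f
  have : IsNoetherian X := {}
  intro F hF q hq
  refine subsingleton_H_of_dimFun (fun x => e + 2 * WC97.tdegN f x) (fun x => ?_)
    (fun x y hxy hne R _ _ _ _ _ P hP => ⟨WC97.tdegN f x - WC97.tdegN f y, ?_,
      cohDimLEAt_frac_of_finiteType f hℓ hxy R P hP⟩) hℓ q F (isLTorsion_of_primary hℓ hF) (fun x _ => ?_) q le_rfl
  · let : Algebra k (X.residueField x) := (WC97.kStr f x).toAlgebra
    have h := cohDimLEAt_of_trdeg hℓ (WC97.tdegN f x) k he (X.residueField x) (WC97.tdeg_eq_natCast f x).le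
    exact fun G hG b hb => h G hG b (by omega)
  · have := tdegN_lt f hxy hne
    omega
  · have h := (TopDim50.dim_mono (X := X) (Set.subset_univ (closure ({x} : Set X)))).trans
      ((Homeomorph.Set.univ X).isHomeomorph.topologicalKrullDim_eq.le.trans hn)
    rw [WC97.topologicalKrullDim_closure f x] at h
    have h' : WC97.tdegN f x ≤ n := by exact_mod_cast h
    omega

end Groth.Agent.CdP50
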