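import Groth.Agent.RD97.LES
import Mathlib.CategoryTheory.Abelian.Injective.Ext
import Mathlib.CategoryTheory.Adjunction.Additive
import Mathlib.Algebra.Homology.DerivedCategory.Ext.EnoughInjectives

/-!
Vanishing of `Ext` on the source of a right adjoint from vanishing of `Ext` into its derived functors.
-/

set_option autoImplicit false
universe w v v' u u'

open CategoryTheory CategoryTheory.Limits CategoryTheory.Abelian

namespace Groth.Agent.CdP50

variable {A : Type u} [Category.{v} A] [Abelian A] [HasExt.{w} A]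
  {B : Type u'} [Category.{v'} B] [Abelian B] [HasExt.{w} B] [EnoughInjectives B]
  {L : A ⥤ B} {R : B ⥤ A} [R.Additive] (adj : L ⊣ R) [PreservesFiniteLimits L] {Z : A} {Z' : B}
  (η : L.obj Z ≅ Z')

include adj η in
/-- A Leray vanishing on the source. -/
theorem subsingleton_ext_source : ∀ (q : ℕ) (M : B),
    (∀ b a : ℕ, a + b = q → Subsingleton (Ext.{w} Z ((R.rightDerived b).obj M) a)) →
    Subsingleton (Ext.{w} Z' M q)
  | 0, M, hR => subsingleton_of_forall_eq 0 fun x => by
    obtain ⟨φ, rfl⟩ := (Ext.mk₀_bijective _ _).2 x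
    have : PreservesLimitsOfSize.{0, 0} R := adj.rightAdjoint_preservesLimits
    have : PreservesFiniteLimits R := PreservesLimitsOfSize.preservesFiniteLimits _
    let e := adj.homEquiv Z M (η.hom ≫ φ) ≫ R.rightDerivedZeroIsoSelf.inv.app M
    have h : e = 0 := (Ext.mk₀_bijective _ _).1 ((hR 0 0 rfl).elim _ _)
    have h' : adj.homEquiv Z M (η.hom ≫ φ) = 0 :=
      (cancel_mono (R.rightDerivedZeroIsoSelf.inv.app M)).1 (h.trans zero_comp.symm)
    have := adj.left_adjoint_additive
    have h'' : η.hom ≫ φ = 0 := (adj.homEquiv Z M).injective (h'.trans (by simp [Adjunction.homEquiv_unit]))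
    rw [show φ = 0 from (cancel_epi η.hom).1 (h''.trans comp_zero.symm), Ext.mk₀_zero]
  | q + 1, M, hR => by
    let S : ShortComplex B :=
      ShortComplex.mk (Injective.ι M) (cokernel.π (Injective.ι M)) (cokernel.condition _)
    have hS : S.ShortExact :=
      { exact := ShortComplex.exact_of_g_is_cokernel _ (cokernelIsCokernel _) }
    have hI : Injective S.X₂ := inferInstanceAs (Injective (Injective.under M))
    have : PreservesLimitsOfSize.{0, 0} R := adj.rightAdjoint_preservesLimits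
    have : PreservesFiniteLimits R := PreservesLimitsOfSize.preservesFiniteLimits _
    have hl : (S.map R).Exact ∧ Mono (R.map S.f) :=
      (((Functor.preservesFiniteLimits_tfae R).out 3 0).1 this :
        ∀ S : ShortComplex B, S.ShortExact → (S.map R).Exact ∧ Mono (R.map S.f)) S hS
    have := hl.2
    have : Mono (S.map R).f := hl.2
    let T := cokernel (R.map S.f)
    let π : R.obj S.X₂ ⟶ T := cokernel.π (R.map S.f)
    let ι : T ⟶ R.obj S.X₃ := cokernel.desc (R.map S.f) (R.map S.g) (S.map R).zero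
    have : Mono ι := hl.1.mono_cokernelDesc
    have h1 : (ShortComplex.mk (R.map S.f) π (cokernel.condition _)).ShortExact :=
      { exact := ShortComplex.exact_of_g_is_cokernel _ (cokernelIsCokernel _) }
    obtain ⟨Δ⟩ := RD97.nonempty_derivedLES R
    let δ : R.obj S.X₃ ⟶ (R.rightDerived 1).obj M :=
      R.rightDerivedZeroIsoSelf.inv.app S.X₃ ≫ Δ.δ S hS 0 1 rfl
    have hgδ : R.map S.g ≫ δ = 0 := by
      rw [← Category.assoc, R.rightDerivedZeroIsoSelf.inv.naturality S.g, Category.assoc, Δ.comp_δ, comp_zero]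
    have hex : (ShortComplex.mk (R.map S.g) δ hgδ).Exact :=
      ShortComplex.exact_of_iso (ShortComplex.isoMk (S₁ := ShortComplex.mk _ _ (Δ.comp_δ S hS 0 1 rfl))
        (S₂ := ShortComplex.mk (R.map S.g) δ hgδ) (R.rightDerivedZeroIsoSelf.app S.X₂)
        (R.rightDerivedZeroIsoSelf.app S.X₃) (Iso.refl _) (R.rightDerivedZeroIsoSelf.hom.naturality S.g).symm
        (by simp [δ])) (Δ.exact₃ S hS 0 1 rfl)
    have : Epi (Δ.δ S hS 0 1 rfl) :=
      (Δ.exact₁ S hS 0 1 rfl).epi_f ((R.isZero_rightDerived_obj_injective_succ 0 S.X₂).eq_of_tgt _ _)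
    have : Epi δ := epi_comp _ _
    have hπι : π ≫ ι = R.map S.g := cokernel.π_desc _ _ _
    have hιδ : ι ≫ δ = 0 := by rw [← cancel_epi π, ← Category.assoc, hπι, hgδ, comp_zero]
    have h2 : (ShortComplex.mk ι δ hιδ).ShortExact :=
      { exact :=
          (ShortComplex.exact_iff_of_epi_of_isIso_of_mono
            ({ τ₁ := π, τ₂ := 𝟙 _, τ₃ := 𝟙 _, comm₁₂ := by simpa using hπι, comm₂₃ := by simp } :
              ShortComplex.mk (R.map S.g) δ hgδ ⟶ ShortComplex.mk ι δ hιδ)).1 hex }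
    have hRI : Injective (R.obj S.X₂) := Injective.injective_of_adjoint adj S.X₂
    have hRM : Subsingleton (Ext.{w} Z (R.obj M) (q + 1)) := subsingleton_of_forall_eq 0 fun z => by
      rw [← Ext.comp_mk₀_id z, ← (R.rightDerivedZeroIsoSelf.app M).inv_hom_id, ← Ext.mk₀_comp_mk₀,
        ← Ext.comp_assoc_of_second_deg_zero,
        (hR 0 (q + 1) rfl).elim (z.comp (Ext.mk₀ (R.rightDerivedZeroIsoSelf.app M).inv) (add_zero _)) 0, Ext.zero_comp]
    have hR1 : Subsingleton (Ext.{w} Z ((R.rightDerived 1).obj M) q) := hR 1 q rfl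
    refine subsingleton_of_forall_eq 0 fun x => ?_
    obtain ⟨t, rfl⟩ := Ext.covariant_sequence_exact₁ Z' hS x
      ((Ext.subsingleton_of_injective.{w} Z' S.X₂ q).elim _ _) rfl
    suffices ∃ y : Ext Z' S.X₂ q, y.comp (Ext.mk₀ S.g) (add_zero q) = t by
      obtain ⟨y, rfl⟩ := this
      rw [Ext.comp_assoc_of_second_deg_zero, hS.comp_extClass, Ext.comp_zero]
    cases q with
    | zero =>
      obtain ⟨τ, rfl⟩ := (Ext.mk₀_bijective _ _).2 t
      let m := adj.homEquiv Z S.X₃ (η.hom ≫ τ)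
      have hm : m ≫ δ = 0 := (Ext.mk₀_bijective _ _).1 (hR1.elim _ _)
      obtain ⟨i, hi⟩ := Ext.covariant_sequence_exact₂ Z h2 (Ext.mk₀ m)
        (by rw [Ext.mk₀_comp_mk₀, hm, Ext.mk₀_zero])
      obtain ⟨i, rfl⟩ := (Ext.mk₀_bijective _ _).2 i
      obtain ⟨j, hj⟩ := Ext.covariant_sequence_exact₃ Z h1 (Ext.mk₀ i) rfl (hRM.elim _ _)
      obtain ⟨j, rfl⟩ := (Ext.mk₀_bijective _ _).2 j
      rw [Ext.mk₀_comp_mk₀] at hi hj
      have hi' : i ≫ ι = m := (Ext.mk₀_bijective _ _).1 hi
      have hj' : j ≫ π = i := (Ext.mk₀_bijective _ _).1 hj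
      refine ⟨Ext.mk₀ (η.inv ≫ (adj.homEquiv Z S.X₂).symm j), ?_⟩
      rw [Ext.mk₀_comp_mk₀]
      congr 1
      rw [Category.assoc, ← adj.homEquiv_naturality_right_symm, ← hπι, ← Category.assoc j, hj', hi',
        Equiv.symm_apply_apply, Iso.inv_hom_id_assoc]
    | succ r =>
      refine ⟨0, ?_⟩
      rw [Ext.zero_comp]
      refine @Subsingleton.elim _ (subsingleton_ext_source (r + 1) S.X₃ fun b a hab => ?_) _ _
      rcases Nat.eq_zero_or_pos b with rfl | hb
      · obtain rfl : a = r + 1 := by omega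
        refine subsingleton_of_forall_eq 0 fun z => ?_
        suffices ∀ w : Ext.{w} Z (R.obj S.X₃) (r + 1), w = 0 by
          rw [← Ext.comp_mk₀_id z, ← (R.rightDerivedZeroIsoSelf.app S.X₃).hom_inv_id, ← Ext.mk₀_comp_mk₀,
            ← Ext.comp_assoc_of_second_deg_zero,
            this (z.comp (Ext.mk₀ (R.rightDerivedZeroIsoSelf.app S.X₃).hom) (add_zero _)), Ext.zero_comp]
        intro w
        obtain ⟨s, rfl⟩ := Ext.covariant_sequence_exact₂ Z h2 w (hR1.elim _ _)
        obtain ⟨i, rfl⟩ := Ext.covariant_sequence_exact₃ Z h1 s rfl (hRM.elim _ _)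
        rw [(Ext.subsingleton_of_injective.{w} Z (R.obj S.X₂) r).elim i 0, Ext.zero_comp, Ext.zero_comp]
      · have : IsIso (Δ.δ S hS b (b + 1) rfl) := by
          have : Mono (Δ.δ S hS b (b + 1) rfl) := by
            refine (Δ.exact₃ S hS b (b + 1) rfl).mono_g ?_
            obtain ⟨b, rfl⟩ : ∃ c, b = c + 1 := ⟨b - 1, by omega⟩
            exact (R.isZero_rightDerived_obj_injective_succ b S.X₂).eq_of_src _ _
          have : Epi (Δ.δ S hS b (b + 1) rfl) :=
            (Δ.exact₁ S hS b (b + 1) rfl).epi_f ((R.isZero_rightDerived_obj_injective_succ b S.X₂).eq_of_tgt _ _)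
          exact isIso_of_mono_of_epi _
        have h := hR (b + 1) a (by omega)
        refine subsingleton_of_forall_eq 0 fun z => ?_
        rw [← Ext.comp_mk₀_id z, ← IsIso.hom_inv_id (Δ.δ S hS b (b + 1) rfl), ← Ext.mk₀_comp_mk₀,
          ← Ext.comp_assoc_of_second_deg_zero, h.elim (z.comp (Ext.mk₀ (Δ.δ S hS b (b + 1) rfl)) (add_zero a)) 0,
          Ext.zero_comp]

end Groth.Agent.CdP50
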