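import Groth.Agent.CdP50.LeraySource
import Groth.Agent.CdP50.Algebraic
/-!
Cohomological dimension over a field from that of the geometric fibre.
-/

set_option autoImplicit false
set_option backward.isDefEq.respectTransparency.types false
universe u
open CategoryTheory CategoryTheory.Limits AlgebraicGeometry Opposite TopologicalSpace CategoryTheory.Abelian
open Groth.Agent.Unr55.EtSh Groth.Agent.EtCore45
namespace Groth.Agent.CdP50

theorem cohDimLEAt_over_field {ℓ d c : ℕ} (hℓ : ℓ.Prime) {K : Type u} [Field K] {X : Scheme.{u}}
    (f : X ⟶ Spec (CommRingCat.of K)) [QuasiCompact f] [QuasiSeparated f]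
    (hK : Dix.CohDimLEAt (Spec (CommRingCat.of K)) ℓ d)
    (hfib : ∀ (Ω : Type u) [Field Ω] [IsSepClosed Ω] (g : Spec (CommRingCat.of Ω) ⟶ Spec (CommRingCat.of K)),
      IsIntegralHom g → Dix.CohDimLEAt (pullback f g) ℓ c) :
    Dix.CohDimLEAt X ℓ (d + c) := fun M hM q hq => by
  let S := Spec (CommRingCat.of K)
  have hM' := isLTorsion_of_primary hℓ hM
  have := preservesFiniteLimits_pull f
  refine subsingleton_ext_source (EtCoh.pullPushAdj f) (EtCore.pullConst f ℤ) q M fun b a hab => ?_
  rcases le_or_gt b c with hb | hb
  · exact hK _ (primary_of_isLTorsion (S8560.result f {ℓ} M hM' b)) a (by omega)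
  refine subsingleton_of_isZero (isZero_of_supp_empty (Set.eq_empty_iff_forall_notMem.2 fun s => ?_)) a
  obtain ⟨R, _, _, _, _, hR⟩ := S0537.result (S.presheaf.stalk s)
  have := hR
  have := hR.isSepClosure
  have hsep : IsSepClosed (IsLocalRing.ResidueField R) := this.sep_closed
  obtain ⟨e⟩ := S0620.result f M s R b
  let A := S.presheaf.stalk s
  let r : Spec (CommRingCat.of (IsLocalRing.ResidueField R)) ⟶ Spec (CommRingCat.of R) :=
    Spec.map (CommRingCat.ofHom (IsLocalRing.residue R))
  have hg : Hens2.geomPt S s R = r ≫ Hens2.specOf S s R := rfl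
  have hpt : Hens2.geomPt S s R default = s := Subsingleton.elim (α := PrimeSpectrum K) _ _
  have hA : IsField A := by
    change IsField (S.presheaf.stalk s)
    rw [Subsingleton.elim (α := PrimeSpectrum K) s (genericPoint S)]
    exact Field.toIsField S.functionField
  have hm : IsLocalRing.maximalIdeal R = ⊥ := by
    rw [← S0538.result A R, IsLocalRing.isField_iff_maximalIdeal_eq.1 hA, Ideal.map_bot]
  have hri : IsIso r := by
    have : Function.Bijective (IsLocalRing.residue R) := ⟨(RingHom.injective_iff_ker_eq_bot _).2 (by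
      rw [IsLocalRing.ker_residue, hm]), IsLocalRing.residue_surjective⟩
    have : IsIso (CommRingCat.ofHom (IsLocalRing.residue R)) :=
      (ConcreteCategory.isIso_iff_bijective _).2 this
    exact inferInstance
  have hint : IsIntegralHom (Hens2.geomPt S s R) := by
    have h1 : IsClosedImmersion (S.fromSpecStalk s) := IsClosedImmersion.of_isPreimmersion _ (by
      rw [Set.eq_univ_of_forall (s := Set.range (S.fromSpecStalk s)) fun y =>
        ⟨IsLocalRing.closedPoint _, Subsingleton.elim (α := PrimeSpectrum K) _ _⟩]
      exact isClosed_univ)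
    rw [show Hens2.geomPt S s R = (r ≫ Spec.map (CommRingCat.ofHom (algebraMap A R))) ≫ S.fromSpecStalk s from rfl,
      ← Spec.map_comp]
    have : IsIntegralHom (Spec.map (CommRingCat.ofHom (algebraMap A R) ≫ CommRingCat.ofHom (IsLocalRing.residue R))) :=
      IsIntegralHom.SpecMap_iff.2 (by
        change ((IsLocalRing.residue R).comp (algebraMap A R)).IsIntegral
        rw [show (IsLocalRing.residue R).comp (algebraMap A R) =
          (algebraMap (IsLocalRing.ResidueField A) (IsLocalRing.ResidueField R)).comp (IsLocalRing.residue A) from rfl]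
        have : Algebra.IsSeparable (IsLocalRing.ResidueField A) (IsLocalRing.ResidueField R) := this.separable
        exact RingHom.IsIntegral.trans _ _ (RingHom.isIntegral_of_surjective _ IsLocalRing.residue_surjective)
          (algebraMap_isIntegral_iff.2 inferInstance))
    infer_instance
  have hP : Dix.CohDimLEAt (pullback f (Hens2.specOf S s R)) ℓ c :=
    cohDimLEAt_of_iso (pullback.map f (Hens2.geomPt S s R) f (Hens2.specOf S s R) (𝟙 _) r (𝟙 _)
      (by simp) (by rw [hg, Category.comp_id])) hℓ (hfib _ _ hint)
  have hz := hP _ (primary_of_isLTorsion (Depth22.isLTorsion_pull (pullback.fst f (Hens2.specOf S s R)) hM')) b hb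
  have := notMem_supp_of_isZero_stalk (Hens2.geomPt S s R) ((@AddCommGrpCat.isZero_of_subsingleton _ hz).of_iso e)
  rwa [hpt] at this

end Groth.Agent.CdP50
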