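import Groth.Agent.CdP50.Dev
import Groth.Agent.EtCore45.IntegralUI
import Groth.Agent.SchBasics.Reduced
import Groth.Agent.EtCore45.HpullUH
import Groth.Agent.Curves2.ImageReduced
import Groth.Prelude.Def_EtAcyc
import Groth.Prelude.Def_PBC

/-!
Vanishing bounded by a function on integral finite schemes which increases strictly along proper
closed immersions.
-/

set_option autoImplicit false
set_option backward.isDefEq.respectTransparency.types false
universe u

open CategoryTheory CategoryTheory.Limits AlgebraicGeometry Opposite CategoryTheory.Abelian TopologicalSpace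
open Groth.Agent.Unr55.EtSh Groth.Agent.EtCore45

namespace Groth.Agent.CdP50

theorem isIntegral_image_of_isIntegral {Z Y : Scheme.{u}} (h : Z ⟶ Y) [IsIntegral Z] [QuasiCompact h] :
    IsIntegral h.image := by
  have := Curves2.isReduced_image h
  have hg : IsGenericPoint (h.toImage (genericPoint Z)) (Set.univ : Set h.image) := by
    rw [isGenericPoint_def, Set.eq_univ_iff_forall]
    intro w
    refine closure_mono (Set.range_subset_iff.2 fun z => ?_) |>.trans closure_closure.subset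
      (show w ∈ closure (Set.range h.toImage) from h.toImage.denseRange w)
    exact specializes_iff_mem_closure.1 ((genericPoint_specializes z).map h.toImage.continuous)
  have : IrreducibleSpace h.image := (irreducibleSpace_def _).2 hg.isIrreducible
  exact isIntegral_of_irreducibleSpace_of_isReduced _

variable {p : ℕ} [Fact p.Prime] {X : Scheme.{u}} [AlgebraicGeometry.IsNoetherian X]
  (φ : ∀ (Y : Scheme.{u}), (Y ⟶ X) → ℕ)
  (hmono : ∀ (Y₁ Y₂ : Scheme.{u}) (g₁ : Y₁ ⟶ X) (g₂ : Y₂ ⟶ X) [IsIntegral Y₁] [IsIntegral Y₂] [IsFinite g₁]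
    [IsFinite g₂] (m : Y₁ ⟶ Y₂), m ≫ g₂ = g₁ →
      φ Y₁ g₁ ≤ φ Y₂ g₂ ∧ (IsClosedImmersion m → ¬ IsIso m → φ Y₁ g₁ < φ Y₂ g₂))
  (h2 : ∀ (Y : Scheme.{u}) (g : Y ⟶ X) [IsIntegral Y] [IsFinite g] (q : ℕ), φ Y g < q →
    Subsingleton (EtCoh.H Y (EtCoh.const Y (ZMod p)) q))

/-- All integral closed subschemes have `φ < q`. -/
def Below (Y : Scheme.{u}) (g : Y ⟶ X) (q : ℕ) : Prop :=
  ∀ (W : Scheme.{u}) (w : W ⟶ Y) [IsIntegral W] [IsClosedImmersion w], φ W (w ≫ g) < q

omit [AlgebraicGeometry.IsNoetherian X] in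
theorem Below.comp {Y Y' : Scheme.{u}} {g : Y ⟶ X} {q : ℕ} (h : Below φ Y g q) (c : Y' ⟶ Y)
    [IsClosedImmersion c] : Below φ Y' (c ≫ g) q := fun W w _ _ => by
  rw [← Category.assoc]
  exact h W (w ≫ c)

include hmono h2 in
theorem van_const_below {Y : Scheme.{u}} (g : Y ⟶ X) [IsFinite g] {q : ℕ} (hq : Below φ Y g q) :
    Subsingleton (EtCoh.H Y (EtCoh.const Y (ZMod p)) q) := by
  have := isNoetherian_of_finite g
  suffices ∀ (C : Closeds Y) (Z : Scheme.{u}) (c : Z ⟶ Y) [IsClosedImmersion c], Set.range c = (C : Set Y) →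
      ∀ q, Below φ Z (c ≫ g) q → Subsingleton (EtCoh.H Z (EtCoh.const Z (ZMod p)) q) from
    this ⊤ Y (𝟙 Y) (by simp) q (by simpa using hq)
  clear hq q
  intro C
  induction C using WellFoundedLT.induction with
  | _ C ih =>
  intro Z c _ hc q hq
  -- pass to the reduced structure
  have hred : ∀ (T : Set Z) (hT : IsClosed T), ∃ (Z' : Scheme.{u}) (a : Z' ⟶ Z), IsReduced Z' ∧
      IsClosedImmersion a ∧ Set.range a = T := fun T hT =>
    ⟨_, (Scheme.IdealSheafData.vanishingIdeal ⟨T, hT⟩).subschemeι,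
      SchBasics.isReduced_vanishingIdeal_subscheme ⟨T, hT⟩, inferInstance, by
        rw [Scheme.IdealSheafData.range_subschemeι, Scheme.IdealSheafData.coe_support_vanishingIdeal]; rfl⟩
  -- proper closed subsets
  have hsub : ∀ (Z' : Scheme.{u}) (a : Z' ⟶ Z) [IsClosedImmersion a], Set.range a ≠ Set.univ → ∀ m,
      Below φ Z' (a ≫ c ≫ g) m → Subsingleton (EtCoh.H Z' (EtCoh.const Z' (ZMod p)) m) := by
    intro Z' a _ ha m hm
    refine ih ⟨Set.range (a ≫ c), (a ≫ c).isClosedEmbedding.isClosed_range⟩ ?_ Z' (a ≫ c) rfl m (by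
      simpa using hm)
    refine lt_of_le_of_ne (fun x ⟨z, hz⟩ => hc.le ⟨a z, hz⟩) fun e => ha (Set.eq_univ_of_forall fun x => ?_)
    obtain ⟨z, hz⟩ := (congrArg SetLike.coe e).ge (hc.le ⟨x, rfl⟩)
    exact ⟨z, c.isClosedEmbedding.injective hz⟩
  rcases isEmpty_or_nonempty Z with he | hne
  · exact subsingleton_of_isZero (isZero_of_isEmpty _) q
  obtain ⟨Z₀, r, hr0, hrc, hrr⟩ := hred Set.univ isClosed_univ
  have := hr0
  have := hrc
  have : Surjective r := ⟨Set.range_eq_univ.1 hrr⟩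
  suffices hgoal : Subsingleton (EtCoh.H Z₀ (EtCoh.const Z₀ (ZMod p)) q) by
    have := preservesFiniteLimits_pull r
    have h1 := Depth22.subsingleton_H_of_iso (EtCore.pullConst r (ZMod p)).symm hgoal
    exact (EtCore45.Hpull_bijective_uh r (EtCoh.const Z (ZMod p)) q).1.subsingleton
  have hq0 : Below φ Z₀ (r ≫ c ≫ g) q := hq.comp φ r
  obtain ⟨A, hA⟩ : ∃ A, A ∈ irreducibleComponents Z₀ := by
    obtain ⟨z⟩ := hne
    obtain ⟨z, rfl⟩ := r.surjective z
    exact ⟨irreducibleComponent z, irreducibleComponent_mem_irreducibleComponents z⟩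
  have hAc := isClosed_of_mem_irreducibleComponents A hA
  have : NoetherianSpace Z₀ := (r ≫ c).isEmbedding.isInducing.noetherianSpace
  let B : Set Z₀ := ⋃₀ (irreducibleComponents Z₀ \ {A})
  have hBc : IsClosed B := by
    rw [show B = ⋃ T ∈ irreducibleComponents Z₀ \ {A}, T from Set.sUnion_eq_biUnion]
    exact NoetherianSpace.finite_irreducibleComponents.sdiff.isClosed_biUnion fun T hT =>
      isClosed_of_mem_irreducibleComponents T hT.1
  by_cases hA1 : A = Set.univ
  · have : IrreducibleSpace Z₀ :=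
      { toPreirreducibleSpace := ⟨hA1 ▸ hA.1.isPreirreducible⟩, toNonempty := hA.1.nonempty.to_subtype.map Subtype.val }
    have : IsIntegral Z₀ := isIntegral_of_irreducibleSpace_of_isReduced Z₀
    have h := hq0 Z₀ (𝟙 Z₀)
    rw [Category.id_comp] at h
    exact h2 Z₀ _ q h
  obtain ⟨y, hyB⟩ : ∃ y, y ∉ B := by
    by_contra hh
    push Not at hh
    have hcl := closure_sUnion_irreducibleComponents_sdiff_singleton
      (NoetherianSpace.finite_irreducibleComponents (α := Z₀)) A hA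
    refine hA.1.nonempty.ne_empty ?_
    rw [← hcl, show (⋃₀ (irreducibleComponents Z₀ \ {A}))ᶜ = (∅ : Set Z₀) from
      Set.compl_empty_iff.2 (Set.eq_univ_of_forall hh), closure_empty]
  have hcov : ∀ x, x ∉ B → x ∈ A := fun x hx => by
    by_contra hh
    exact hx ⟨_, ⟨irreducibleComponent_mem_irreducibleComponents x, fun e => hh (e ▸ mem_irreducibleComponent)⟩,
      mem_irreducibleComponent⟩
  have hBne : B ≠ Set.univ := fun e => hyB (e ▸ trivial)
  obtain ⟨ZA, a, ha0, haC, har⟩ := hred (r '' A) ((r.isClosedEmbedding.isClosedMap) A hAc)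
  -- transport the closed subsets to `Z₀`
  let IA := Scheme.IdealSheafData.vanishingIdeal (X := Z₀) ⟨A, hAc⟩
  let IB := Scheme.IdealSheafData.vanishingIdeal (X := Z₀) ⟨B, hBc⟩
  let a' := IA.subschemeι
  let b' := IB.subschemeι
  have hra : Set.range a' = A := by
    rw [Scheme.IdealSheafData.range_subschemeι, Scheme.IdealSheafData.coe_support_vanishingIdeal]; rfl
  have hrb : Set.range b' = B := by
    rw [Scheme.IdealSheafData.range_subschemeι, Scheme.IdealSheafData.coe_support_vanishingIdeal]; rfl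
  have hne' : ∀ (T : Set Z₀), T ≠ Set.univ → r '' T ≠ Set.univ := fun T hT e => hT
    (Set.eq_univ_of_forall fun x => by
      obtain ⟨z, hz, hzx⟩ := e.ge (Set.mem_univ (r x))
      rwa [r.isClosedEmbedding.injective hzx] at hz)
  have hvB : Subsingleton (EtCoh.H IB.subscheme (EtCoh.const IB.subscheme (ZMod p)) q) := by
    refine hsub _ (b' ≫ r) ?_ q (by simpa using hq0.comp φ b')
    rw [Scheme.Hom.comp_base, TopCat.coe_comp, Set.range_comp, hrb]
    exact hne' B hBne
  let O : Z₀.Opens := ⟨Bᶜ, hBc.isOpen_compl⟩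
  obtain ⟨w, hS⟩ := shortExact_open_closed b' O.ι (by rw [O.range_ι, hrb]; rfl) (EtCoh.const Z₀ (ZMod p))
  have hB3 := (Depth22.H_push_finite b' _ q).2
    (Depth22.subsingleton_H_of_iso (EtCore.pullConst b' (ZMod p)).symm hvB)
  refine subsingleton_mid hS ?_ hB3
  -- the open part lives on `A`
  let V : IA.subscheme.Opens := a' ⁻¹ᵁ O
  let l : V.toScheme ⟶ O.toScheme := a' ∣_ O
  have hcart : IsPullback V.ι l a' O.ι := (isPullback_morphismRestrict a' O).flip
  have : IsClosedImmersion l := MorphismProperty.of_isPullback hcart (inferInstanceAs (IsClosedImmersion a'))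
  have : Surjective l := ⟨fun o => by
    obtain ⟨x, hx⟩ := hra.ge (hcov (O.ι o) o.2)
    refine ⟨⟨x, show a' x ∈ O by rw [hx]; exact o.2⟩, O.ι.isOpenEmbedding.injective ?_⟩
    rw [← Scheme.Hom.comp_apply, morphismRestrict_ι, Scheme.Hom.comp_apply]
    exact hx⟩
  let C' := (EtShriek.restrAlong O.ι).obj (EtCoh.const Z₀ (ZMod p))
  let G := (EtCoh.pull l).obj C'
  obtain ⟨e⟩ := S0653.result a' O.ι V.ι l hcart G
  have := Cons51.isIso_unit_surjective_closed l C'
  have e1 : (EtCoh.push a').obj ((EtShriek.extZero V.ι).obj G) ≅ (EtShriek.extZero O.ι).obj C' :=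
    e ≪≫ (EtShriek.extZero O.ι).mapIso (asIso ((EtCoh.pullPushAdj l).unit.app C')).symm
  have e2 : G ≅ (EtShriek.restrAlong V.ι).obj (EtCoh.const IA.subscheme (ZMod p)) :=
    (EtCoh.pull l).mapIso (((pullRestrIso O.ι).app _).symm ≪≫ EtCore.pullConst O.ι (ZMod p)) ≪≫
      EtCore.pullConst l (ZMod p) ≪≫ (EtCore.pullConst V.ι (ZMod p)).symm ≪≫ (pullRestrIso V.ι).app _
  refine Depth22.subsingleton_H_of_iso e1 ((Depth22.H_push_finite a' _ q).2
    (Depth22.subsingleton_H_of_iso ((EtShriek.extZero V.ι).mapIso e2.symm) ?_))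
  -- on the component `A`
  have : IsReduced IA.subscheme := SchBasics.isReduced_vanishingIdeal_subscheme _
  have : IrreducibleSpace IA.subscheme := by
    have : IrreducibleSpace A := isIrreducible_iff_irreducibleSpace.1 hA.1
    have hh : IsIrreducible (Set.univ : Set IA.subscheme) := by
      refine ⟨?_, fun U₁ U₂ hU₁ hU₂ h₁ h₂ => ?_⟩
      · obtain ⟨x, hx⟩ := hA.1.nonempty
        obtain ⟨z, -⟩ := hra.ge hx
        exact ⟨z, trivial⟩
      · obtain ⟨U₁', hU₁', rfl⟩ := a'.isClosedEmbedding.isInducing.isOpen_iff.1 hU₁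
        obtain ⟨U₂', hU₂', rfl⟩ := a'.isClosedEmbedding.isInducing.isOpen_iff.1 hU₂
        obtain ⟨z₁, -, hz₁⟩ := h₁
        obtain ⟨z₂, -, hz₂⟩ := h₂
        obtain ⟨x, hxA, hx⟩ := hA.1.2 U₁' U₂' hU₁' hU₂' ⟨a' z₁, hra.le ⟨z₁, rfl⟩, hz₁⟩
          ⟨a' z₂, hra.le ⟨z₂, rfl⟩, hz₂⟩
        obtain ⟨z, rfl⟩ := hra.ge hxA
        exact ⟨z, trivial, hx⟩
    exact { toPreirreducibleSpace := ⟨hh.2⟩, toNonempty := hh.1.to_type }
  have : IsIntegral IA.subscheme := isIntegral_of_irreducibleSpace_of_isReduced _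
  have hA0 : Below φ IA.subscheme (a' ≫ r ≫ c ≫ g) q := hq0.comp φ a'
  have hφA : φ IA.subscheme (a' ≫ r ≫ c ≫ g) < q := by
    have h := hA0 IA.subscheme (𝟙 _)
    rwa [Category.id_comp] at h
  have hvA : Subsingleton (EtCoh.H IA.subscheme (EtCoh.const IA.subscheme (ZMod p)) q) := h2 _ _ q hφA
  obtain ⟨q, rfl⟩ : ∃ m, q = m + 1 := ⟨q - 1, by omega⟩
  obtain ⟨ZAB, i, -, hiC, hir⟩ : ∃ (ZAB : Scheme.{u}) (i : ZAB ⟶ IA.subscheme), IsReduced ZAB ∧
      IsClosedImmersion i ∧ Set.range i = a' ⁻¹' B :=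
    ⟨_, (Scheme.IdealSheafData.vanishingIdeal ⟨a' ⁻¹' B, hBc.preimage a'.continuous⟩).subschemeι,
      SchBasics.isReduced_vanishingIdeal_subscheme _, inferInstance, by
        rw [Scheme.IdealSheafData.range_subschemeι, Scheme.IdealSheafData.coe_support_vanishingIdeal]; rfl⟩
  have := hiC
  obtain ⟨w', hS'⟩ := shortExact_open_closed i V.ι (by rw [V.range_ι, hir]; rfl)
    (EtCoh.const IA.subscheme (ZMod p))
  have hvAB : Subsingleton (EtCoh.H ZAB (EtCoh.const ZAB (ZMod p)) q) := by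
    have hni : Set.range i ≠ Set.univ := by
      obtain ⟨z, hz⟩ := hra.ge (hcov y hyB)
      rw [hir]
      exact fun hh => hyB (hz ▸ (hh.ge (Set.mem_univ z) : a' z ∈ B))
    refine hsub ZAB (i ≫ a' ≫ r) ?_ q ?_
    · rw [Scheme.Hom.comp_base, TopCat.coe_comp, Set.range_comp]
      exact fun hh => hne' A hA1 (Set.eq_univ_of_univ_subset (hh ▸ by
        rintro _ ⟨_, ⟨z, rfl⟩, rfl⟩
        exact ⟨a' (i z), hra.le ⟨_, rfl⟩, rfl⟩))
    · intro W v _ _
      have hlt := (hmono W IA.subscheme (v ≫ i ≫ a' ≫ r ≫ c ≫ g) (a' ≫ r ≫ c ≫ g) (v ≫ i) (by simp)).2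
        inferInstance fun hiso => hni (Set.eq_univ_of_forall fun z => by
          obtain ⟨x, hx⟩ := (v ≫ i).surjective z
          exact ⟨v x, hx⟩)
      simp only [Category.assoc] at hlt ⊢
      omega
  refine subsingleton_of_forall_eq 0 fun x => ?_
  obtain ⟨z, rfl⟩ := Ext.covariant_sequence_exact₁ _ hS' x (hvA.elim _ _) rfl
  rw [((Depth22.H_push_finite i _ q).2
    (Depth22.subsingleton_H_of_iso (EtCore.pullConst i (ZMod p)).symm hvAB)).elim z 0]
  exact Ext.zero_comp _ _ _ _ _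

include hmono h2 in
/-- Vanishing for torsion sheaves above the values of `φ` on the support. -/
theorem van_torsion_below {Y : Scheme.{u}} (g : Y ⟶ X) [IsFinite g] (F : EtCoh.Ab Y)
    (hF : EtAcyc.IsLTorsion {p} F) (q : ℕ)
    (hq : ∀ (Z : Scheme.{u}) (c : Z ⟶ Y) [IsIntegral Z] [IsClosedImmersion c],
      Set.range c.base ⊆ closure (EtPBC.supp F) → φ Z (c ≫ g) < q) :
    Subsingleton (EtCoh.H Y F q) := by
  have := isNoetherian_of_finite g
  let I := Scheme.IdealSheafData.vanishingIdeal (X := Y) ⟨closure (EtPBC.supp F), isClosed_closure⟩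
  let i := I.subschemeι
  have hri : Set.range i = closure (EtPBC.supp F) := by
    rw [Scheme.IdealSheafData.range_subschemeι, Scheme.IdealSheafData.coe_support_vanishingIdeal]; rfl
  obtain ⟨F', ⟨e⟩⟩ := (EtCore45.supp_subset_iff i F).2 (subset_closure.trans hri.ge)
  refine Depth22.subsingleton_H_of_iso e ((Depth22.H_push_finite i F' q).2 ?_)
  have := Unr55.EtSh.isIso_counit_closed i F'
  refine Depth22.subsingleton_H_of_iso
    ((EtCoh.pull i).mapIso e ≪≫ Iso.refl _).symm ?_ |> Depth22.subsingleton_H_of_iso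
      (asIso ((EtCoh.pullPushAdj i).counit.app F'))
  have hT := Depth22.isLTorsion_pull i hF
  have hP : Dix.IsPrimaryTorsion p ((EtCoh.pull i).obj F) := fun U s x => by
    obtain ⟨V, v, m, hv, ⟨hm0, hm⟩, hs⟩ := hT U s x
    exact ⟨V, v, hv, _, (congrArg (· • _) (Nat.eq_prime_pow_of_unique_prime_dvd hm0.ne'
      fun {d} hd hdm => hm d hd hdm).symm).trans hs⟩
  have : IsNoetherian I.subscheme := isNoetherian_of_finite i
  have hbelow : ∀ {Y' : Scheme.{u}} (h : Y' ⟶ I.subscheme) [IsFinite h] (m : ℕ), q ≤ m →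
      Below φ Y' (h ≫ i ≫ g) m := by
    intro Y' h _ m hm W w _ _
    have : IsClosedImmersion (w ≫ 𝟙 Y') := inferInstance
    let Z := (w ≫ h).image
    let c := (w ≫ h).imageι
    let m' : W ⟶ Z := (w ≫ h).toImage
    have hm' : m' ≫ c = w ≫ h := (w ≫ h).toImage_imageι
    have : IsIntegral Z := isIntegral_image_of_isIntegral (w ≫ h)
    have h1 := (hmono W Z (w ≫ h ≫ i ≫ g) (c ≫ i ≫ g) m' (by rw [reassoc_of% hm'])).1
    have h3 := hq Z (c ≫ i) (by
      rintro _ ⟨z, rfl⟩
      exact hri.le ⟨c z, rfl⟩)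
    simp only [Category.assoc] at h1 h3 ⊢
    omega
  rcases isEmpty_or_nonempty I.subscheme with he | ⟨⟨z⟩⟩
  · exact subsingleton_of_isZero (isZero_of_isEmpty _) q
  rcases Nat.eq_zero_or_pos q with rfl | hqpos
  · let h := I.subscheme.fromSpecResidueField z
    have : QuasiCompact h := quasiCompact_of_noetherianSpace_source h
    have := isIntegral_image_of_isIntegral h
    have h3 := hq h.image (h.imageι ≫ i) (by
      rintro _ ⟨x, rfl⟩
      exact hri.le ⟨h.imageι x, rfl⟩)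
    omega
  have hcv : ConstVan p I.subscheme (q - 1) := fun Y' h hh m hm =>
    van_const_below φ hmono h2 (h ≫ i ≫ g) (hbelow h m (by omega))
  exact cohDimLEAt_of_constVan hcv _ hP q (by omega)

end Groth.Agent.CdP50
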