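import Groth.Agent.CdP50.PointPush
import Groth.Agent.CdP50.Dev
import Groth.Agent.EtCore45.RingSupp
import Groth.Agent.EtCore45.Vanish
import Groth.Agent.EtCore45.HpullUH
import Groth.Agent.S0537
import Groth.Agent.S0540
import Groth.Agent.S0620
import Groth.Agent.S2817
import Groth.Prelude.Def_Cyc
import Groth.Prelude.Def_EtAcyc
import Groth.Prelude.Def_PBC

/-!
Higher direct images along the inclusion of a point vanish where the fields of the strict
localizations have small cohomological dimension.
-/

set_option autoImplicit false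
set_option backward.isDefEq.respectTransparency.types false
universe u

open CategoryTheory CategoryTheory.Limits AlgebraicGeometry Opposite TopologicalSpace CategoryTheory.Abelian
open Groth.Agent.Unr55.EtSh Groth.Agent.EtCore45

namespace Groth.Agent.CdP50

variable {X : Scheme.{u}}

/-- A geometric point lifts to any point of an etale scheme over it. -/
theorem exists_lift_at {W : Scheme.{u}} (f : W ⟶ X) [Etale f] {Ω : Type u} [Field Ω] [IsSepClosed Ω]
    (y : W) (a : X.residueField (f y) ⟶ CommRingCat.of Ω) :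
    ∃ l : Spec (CommRingCat.of Ω) ⟶ W, l ≫ f = Spec.map a ≫ X.fromSpecResidueField (f y) ∧ l default = y := by
  let : Algebra (X.residueField (f y)) (W.residueField y) := (f.residueFieldMap y).hom.toAlgebra
  let : Algebra (X.residueField (f y)) Ω := a.hom.toAlgebra
  have : Algebra.IsSeparable (X.residueField (f y)) (W.residueField y) := inferInstance
  let b : W.residueField y →ₐ[X.residueField (f y)] Ω := IsSepClosed.lift
  refine ⟨Spec.map (CommRingCat.ofHom b.toRingHom) ≫ W.fromSpecResidueField y, ?_,
    W.fromSpecResidueField_apply y _⟩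
  rw [Category.assoc, ← f.SpecMap_residueFieldMap_fromSpecResidueField, ← Category.assoc, ← Spec.map_comp]
  congr 2
  ext z
  exact b.commutes z

/-- A vanishing geometric stalk takes the point out of the support. -/
theorem notMem_supp_of_isZero_stalk {F : EtCoh.Ab X} {Ω : Type u} [Field Ω] [IsSepClosed Ω]
    (η : Spec (CommRingCat.of Ω) ⟶ X) (h : IsZero ((EtCoh.stalk η).obj F)) :
    η default ∉ EtPBC.supp F := by
  intro hmem
  rw [EtCore45.supp_eq_iUnion] at hmem
  simp only [Set.mem_iUnion] at hmem
  obtain ⟨U, σ, u, hu, hux⟩ := hmem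
  have : Etale U.hom := U.prop
  obtain ⟨⟨x, a⟩, rfl⟩ := (Scheme.SpecToEquivOfField Ω X).symm.surjective η
  obtain rfl : U.hom u = x := hux.trans (X.fromSpecResidueField_apply x _)
  obtain ⟨l, hl, hlu⟩ := exists_lift_at (W := U.left) U.hom u a
  let t : Pt ((Scheme.SpecToEquivOfField Ω X).symm ⟨U.hom u, a⟩) U := mkPt _ l hl
  have h0 : germ _ F t σ = 0 := (AddCommGrpCat.subsingleton_of_isZero h).elim _ _
  rw [sectSupp_eq] at hu
  refine hu ?_
  have := (germ_eq_zero_iff_mem F _ t σ).1 h0
  rwa [show hom _ t default = u from hlu] at this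

theorem isLTorsion_of_primary {ℓ : ℕ} (hℓ : ℓ.Prime) {F : EtCoh.Ab X} (hF : Dix.IsPrimaryTorsion ℓ F) :
    EtAcyc.IsLTorsion {ℓ} F := fun U s x => by
  obtain ⟨V, g, hv, k, hk⟩ := hF U s x
  exact ⟨V, g, ℓ ^ k, hv, ⟨pow_pos hℓ.pos k, fun p hp hd =>
    (Nat.prime_dvd_prime_iff_eq hp hℓ).1 (hp.dvd_of_dvd_pow hd)⟩, hk⟩

theorem primary_of_isLTorsion {ℓ : ℕ} {F : EtCoh.Ab X} (hF : EtAcyc.IsLTorsion {ℓ} F) :
    Dix.IsPrimaryTorsion ℓ F := fun U s x => by
  obtain ⟨V, v, m, hv, ⟨hm0, hm⟩, hs⟩ := hF U s x
  exact ⟨V, v, hv, _, (congrArg (· • _) (Nat.eq_prime_pow_of_unique_prime_dvd hm0.ne'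
    fun {d} hd hdm => hm d hd hdm).symm).trans hs⟩

/-- Cohomological dimension is invariant under isomorphisms. -/
theorem cohDimLEAt_of_iso {Y : Scheme.{u}} (e : Y ⟶ X) [IsIso e] {ℓ d : ℕ} (hℓ : ℓ.Prime)
    (h : Dix.CohDimLEAt Y ℓ d) : Dix.CohDimLEAt X ℓ d := fun F hF q hq => by
  have := preservesFiniteLimits_pull e
  have h1 := h _ (primary_of_isLTorsion (Depth22.isLTorsion_pull e (isLTorsion_of_primary hℓ hF))) q hq
  exact (Hpull_bijective_uh e F q).1.subsingleton

/-- Schemes with finitely many points, all closed. -/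
theorem cohDimLEAt_of_finite {ℓ d : ℕ} (hℓ : ℓ.Prime) : ∀ (m : ℕ) (P : Scheme.{u}), Finite P → Nat.card P ≤ m →
    T1Space P → (∀ p : P, Dix.CohDimLEAt (Spec (P.residueField p)) ℓ d) → Dix.CohDimLEAt P ℓ d := by
  intro m
  induction m with
  | zero =>
    intro P _ hc _ _ F _ q _
    have : IsEmpty P := by
      rw [← not_nonempty_iff]
      intro h
      exact absurd hc (Nat.not_le.2 Nat.card_pos)
    exact subsingleton_of_isZero (isZero_of_isEmpty F) q
  | succ m ih =>
    intro P hf hc ht hp F hF q hq
    rcases isEmpty_or_nonempty P with he | ⟨⟨p⟩⟩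
    · exact subsingleton_of_isZero (isZero_of_isEmpty F) q
    let i := P.fromSpecResidueField p
    have hri : Set.range i = {p} := P.range_fromSpecResidueField p
    have : IsClosedImmersion i := IsClosedImmersion.of_isPreimmersion i (by rw [hri]; exact isClosed_singleton)
    let O : P.Opens := ⟨{p}ᶜ, isOpen_compl_singleton⟩
    have : IsClosedImmersion O.ι :=
      IsClosedImmersion.of_isPreimmersion O.ι (Set.toFinite _).isClosed
    obtain ⟨w, hS⟩ := shortExact_open_closed i O.ι (by rw [O.range_ι, hri]; rfl) F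
    refine subsingleton_mid hS ?_ ?_
    · obtain ⟨e⟩ := nonempty_extZero_push_iso O.ι ((EtShriek.restrAlong O.ι).obj F)
      have : Finite O.toScheme := Finite.of_injective _ O.ι.isOpenEmbedding.injective
      have h1 := ih O.toScheme this ?_ (O.ι.isEmbedding.t1Space) (fun o => ?_)
      · exact Depth22.subsingleton_H_of_iso e ((Depth22.H_push_finite O.ι _ q).2
          (Depth22.subsingleton_H_of_iso ((pullRestrIso O.ι).app F)
            (h1 _ (primary_of_isLTorsion (Depth22.isLTorsion_pull O.ι (isLTorsion_of_primary hℓ hF))) q hq)))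
      · have : Fintype P := Fintype.ofFinite P
        have : Fintype O.toScheme := Fintype.ofFinite _
        have h2 : Fintype.card O.toScheme < Fintype.card P :=
          Fintype.card_lt_of_injective_of_notMem _ O.ι.isOpenEmbedding.injective (b := p)
            (by rw [O.range_ι]; exact fun h => h rfl)
        rw [Nat.card_eq_fintype_card] at hc ⊢
        omega
      · exact cohDimLEAt_of_iso (inv (Spec.map (O.ι.residueFieldMap o))) hℓ (hp _)
    · refine (Depth22.H_push_finite i _ q).2 (hp p _ ?_ q hq)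
      exact primary_of_isLTorsion (Depth22.isLTorsion_pull i (isLTorsion_of_primary hℓ hF))

variable [IsLocallyNoetherian X]

/-- Direct images along a point vanish in degrees where the fields over it in the strict localization have
no cohomology. -/
theorem notMem_supp_Rpush {ℓ : ℕ} (hℓ : ℓ.Prime) (x : X) [QuasiCompact (X.fromSpecResidueField x)]
    [QuasiSeparated (X.fromSpecResidueField x)] (y : X) (d : ℕ)
    (h : ∀ (hxy : x ⤳ y) (R : Type u) [CommRing R] [IsLocalRing R] [Algebra (X.presheaf.stalk y) R]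
      [IsLocalHom (algebraMap (X.presheaf.stalk y) R)] [Hensel.IsStrictHenselization (X.presheaf.stalk y) R],
      ∀ P ∈ ((RingHom.ker (Cyc.specMap y x hxy)).map (algebraMap (X.presheaf.stalk y) R)).minimalPrimes,
        Dix.CohDimLEAt (Spec (CommRingCat.of (FractionRing (R ⧸ P)))) ℓ d)
    (M : EtCoh.Ab (Spec (X.residueField x))) (hM : EtAcyc.IsLTorsion {ℓ} M) (b : ℕ) (hb : d < b) :
    y ∉ EtPBC.supp ((EtCoh.Rpush (X.fromSpecResidueField x) b).obj M) := by
  obtain ⟨R, _, _, _, _, hR⟩ := S0537.result (X.presheaf.stalk y)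
  have := hR.isSepClosure
  have hsep : IsSepClosed (IsLocalRing.ResidueField R) := this.sep_closed
  let j := X.fromSpecResidueField x
  let s := Hens2.specOf X y R
  let P := pullback j s
  let g : P ⟶ Spec (CommRingCat.of R) := pullback.snd j s
  have : IsPreimmersion g := MorphismProperty.pullback_snd (P := @IsPreimmersion) j s inferInstance
  obtain ⟨e⟩ := S0620.result j M y R b
  have hpt : Hens2.geomPt X y R default = y := by
    have hg : Hens2.geomPt X y R = Spec.map (CommRingCat.ofHom (IsLocalRing.residue R)) ≫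
        Spec.map (CommRingCat.ofHom (algebraMap (X.presheaf.stalk y) R)) ≫ X.fromSpecStalk y := rfl
    rw [hg, Scheme.Hom.comp_apply, Scheme.Hom.comp_apply]
    have h1 : Spec.map (CommRingCat.ofHom (IsLocalRing.residue R)) default = IsLocalRing.closedPoint R :=
      IsLocalRing.PrimeSpectrum.comap_residue R _
    rw [h1]
    refine (congrArg (X.fromSpecStalk y) ?_).trans X.fromSpecStalk_closedPoint
    exact IsLocalRing.comap_closedPoint (algebraMap (X.presheaf.stalk y) R)
  suffices hP : Dix.CohDimLEAt P ℓ d by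
    have hz := hP _ (primary_of_isLTorsion (Depth22.isLTorsion_pull (pullback.fst j s) hM)) b hb
    have := notMem_supp_of_isZero_stalk (Hens2.geomPt X y R)
      ((@AddCommGrpCat.isZero_of_subsingleton _ hz).of_iso e)
    rwa [hpt] at this
  -- the points lie over `x`
  by_cases hxy : x ⤳ y
  swap
  · have : IsEmpty P := ⟨fun p => hxy (by
      have h1 : s (g p) = x := by
        rw [← Scheme.Hom.comp_apply, ← pullback.condition, Scheme.Hom.comp_apply]
        exact X.fromSpecResidueField_apply x _
      rw [← h1]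
      have h2 : s (g p) ∈ Set.range (X.fromSpecStalk y) := ⟨_, rfl⟩
      rwa [Scheme.range_fromSpecStalk] at h2)⟩
    exact fun F _ q _ => subsingleton_of_isZero (isZero_of_isEmpty F) q
  let px := RingHom.ker (Cyc.specMap y x hxy)
  have : px.IsPrime := RingHom.ker_isPrime _
  have hpx : X.fromSpecStalk y ⟨px, inferInstance⟩ = x := by
    have h1 : Spec.map (CommRingCat.ofHom (Cyc.specMap y x hxy)) ≫ X.fromSpecStalk y = X.fromSpecResidueField x := by
      change Spec.map (X.presheaf.stalkSpecializes hxy ≫ X.residue x) ≫ _ = _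
      rw [Spec.map_comp, Category.assoc, Scheme.SpecMap_stalkSpecializes_fromSpecStalk]
      rfl
    have h2 := congrArg (fun k : Spec (X.residueField x) ⟶ X => k default) h1
    simp only [Scheme.Hom.comp_apply, Scheme.fromSpecResidueField_apply] at h2
    refine Eq.trans (congrArg (X.fromSpecStalk y) (PrimeSpectrum.ext ?_)) h2
    have h3 : ∀ q : PrimeSpectrum (X.residueField x), px = (PrimeSpectrum.comap (Cyc.specMap y x hxy) q).asIdeal :=
      fun q => by
        rw [PrimeSpectrum.comap_asIdeal, (Ideal.eq_bot_or_top q.asIdeal).resolve_right q.isPrime.ne_top,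
          ← RingHom.ker_eq_comap_bot]
    exact h3 _
  have hover : ∀ p : P, (g p).asIdeal.comap (algebraMap (X.presheaf.stalk y) R) = px := fun p => by
    have h1 : s (g p) = x := by
      rw [← Scheme.Hom.comp_apply, ← pullback.condition, Scheme.Hom.comp_apply]
      exact X.fromSpecResidueField_apply x _
    exact congrArg PrimeSpectrum.asIdeal
      ((X.fromSpecStalk y).isEmbedding.injective (h1.trans hpx.symm))
  -- the fibre is artinian
  obtain ⟨n, K, _, _, -, ⟨eK⟩⟩ := S2817.result (X.presheaf.stalk y) R px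
  have : IsArtinianRing (TensorProduct (X.presheaf.stalk y) px.ResidueField R) :=
    eK.toRingEquiv.symm.surjective.isArtinianRing (f := eK.toRingEquiv.symm.toRingHom)
  let pe := PrimeSpectrum.preimageOrderIsoFiber (X.presheaf.stalk y) R ⟨px, inferInstance⟩
  let c : P → PrimeSpectrum.comap (algebraMap (X.presheaf.stalk y) R) ⁻¹' {⟨px, inferInstance⟩} := fun p =>
    ⟨g p, PrimeSpectrum.ext (hover p)⟩
  have hcinj : Function.Injective c := fun a b hab => g.isEmbedding.injective (congrArg Subtype.val hab)
  have hfin : Finite P := Finite.of_injective _ (pe.injective.comp hcinj)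
  have hmax : ∀ p p' : P, (g p).asIdeal ≤ (g p').asIdeal → p = p' := fun p p' hle => by
    refine hcinj (pe.injective (PrimeSpectrum.ext ?_))
    exact (Ideal.IsMaximal.eq_of_le (IsArtinianRing.isMaximal_of_isPrime _) (PrimeSpectrum.isPrime _).ne_top
      (pe.monotone (show c p ≤ c p' from hle)))
  have ht : T1Space P := ⟨fun p => closure_eq_iff_isClosed.1 (Set.Subset.antisymm
    (fun p' hp' => (hmax p p' ((PrimeSpectrum.le_iff_specializes
      (show PrimeSpectrum R from g p) (show PrimeSpectrum R from g p')).2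
      ((specializes_iff_mem_closure.2 hp').map g.continuous))).symm) subset_closure)⟩
  refine cohDimLEAt_of_finite hℓ _ P hfin le_rfl ht fun p => ?_
  -- its points are minimal primes
  let 𝔭 := (g p).asIdeal
  have hmin : 𝔭 ∈ (px.map (algebraMap (X.presheaf.stalk y) R)).minimalPrimes := by
    refine ⟨⟨(g p).isPrime, Ideal.map_le_iff_le_comap.2 (hover p).ge⟩, fun 𝔮 hq hle => ?_⟩
    have hq1 : 𝔮.comap (algebraMap (X.presheaf.stalk y) R) = px :=
      le_antisymm ((Ideal.comap_mono hle).trans (hover p).le) (Ideal.map_le_iff_le_comap.1 hq.2)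
    let c' : PrimeSpectrum.comap (algebraMap (X.presheaf.stalk y) R) ⁻¹' {⟨px, inferInstance⟩} :=
      ⟨⟨𝔮, hq.1⟩, PrimeSpectrum.ext hq1⟩
    have := congrArg PrimeSpectrum.asIdeal (congrArg Subtype.val (pe.injective (PrimeSpectrum.ext
      (Ideal.IsMaximal.eq_of_le (IsArtinianRing.isMaximal_of_isPrime _) (PrimeSpectrum.isPrime _).ne_top
        (pe.monotone (show c' ≤ c p from hle))))))
    exact this.ge
  have := h hxy R 𝔭 hmin
  have hgi : IsIso (g.residueFieldMap p) := by
    refine (ConcreteCategory.isIso_iff_bijective _).2 ⟨(g.residueFieldMap p).hom.injective, fun z => ?_⟩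
    obtain ⟨z, rfl⟩ := IsLocalRing.residue_surjective z
    obtain ⟨w, rfl⟩ := g.stalkMap_surjective p z
    exact ⟨(Spec (CommRingCat.of R)).residue (g p) w, rfl⟩
  let e1 : FractionRing (R ⧸ 𝔭) ≃+* 𝔭.ResidueField :=
    (IsLocalization.algEquiv (nonZeroDivisors (R ⧸ 𝔭)) (FractionRing (R ⧸ 𝔭)) 𝔭.ResidueField).toRingEquiv
  exact cohDimLEAt_of_iso (Spec.map e1.symm.toCommRingCatIso.hom ≫
    Spec.map (Scheme.Spec.residueFieldIso (CommRingCat.of R) (g p)).hom ≫ Spec.map (inv (g.residueFieldMap p))) hℓ
    this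

end Groth.Agent.CdP50
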