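import Groth.Agent.Unr55.Et.Unit
import Groth.Agent.Unr55.Et.Lift
import Groth.Agent.Unr57.FieldSum
import Mathlib.RingTheory.Etale.StandardEtale
import Mathlib.FieldTheory.PrimitiveElement
import Mathlib.RingTheory.Polynomial.ScaleRoots

/-!
Stalks of direct images along the inclusion of a point.
-/

set_option autoImplicit false
set_option backward.isDefEq.respectTransparency.types false
universe u

open CategoryTheory CategoryTheory.Limits AlgebraicGeometry Opposite Polynomial
open Groth.Agent.Unr55.EtSh

namespace Groth.Agent.CdP50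

/-- A separable element, scaled to have its minimal polynomial in the image of a ring with fraction field `K`. -/
theorem exists_primitive_lift {A K L : Type u} [CommRing A] [Field K] [Field L] (χ : A →+* K)
    (hχ : ∀ z : K, ∃ a b, χ b ≠ 0 ∧ z * χ b = χ a) [Algebra K L] [FiniteDimensional K L] [Algebra.IsSeparable K L] :
    ∃ (f : A[X]) (θ : L), f.Monic ∧ aeval θ (f.map χ) = 0 ∧ aeval θ ((f.map χ).derivative) ≠ 0 ∧
      IntermediateField.adjoin K {θ} = ⊤ := by
  classical
  obtain ⟨α, hα⟩ := Field.exists_primitive_element K L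
  let q := minpoly K α
  have hint : IsIntegral K α := IsIntegral.of_finite K α
  choose a b hb hab using fun i : ℕ => hχ (q.coeff i)
  let B : A := ∏ i ∈ Finset.range q.natDegree, b i
  have hB : χ B ≠ 0 := by
    rw [map_prod]
    exact Finset.prod_ne_zero_iff.2 fun i _ => hb i
  let c := χ B
  let θ : L := algebraMap K L c * α
  have hgen : IntermediateField.adjoin K {θ} = ⊤ := by
    rw [eq_top_iff, ← hα, IntermediateField.adjoin_simple_le_iff]
    have : α = algebraMap K L c⁻¹ * θ := by
      simp only [θ, ← mul_assoc, ← map_mul, inv_mul_cancel₀ hB, map_one, one_mul, c]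
    rw [this]
    exact mul_mem (IntermediateField.algebraMap_mem _ _) (IntermediateField.mem_adjoin_simple_self K θ)
  have hθ : IsIntegral K θ := IsIntegral.of_finite K θ
  have hq : minpoly K θ = q.scaleRoots c := by
    have hm : (q.scaleRoots c).Monic := (monic_scaleRoots_iff c).2 (minpoly.monic hint)
    have hdvd : minpoly K θ ∣ q.scaleRoots c :=
      minpoly.dvd K θ (scaleRoots_aeval_eq_zero (minpoly.aeval K α))
    refine (eq_of_monic_of_dvd_of_natDegree_le (minpoly.monic hθ) hm hdvd ?_).symm
    rw [natDegree_scaleRoots, ← IntermediateField.adjoin.finrank hint, ← IntermediateField.adjoin.finrank hθ,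
      hgen, hα]
  have hmem : q.scaleRoots c ∈ Polynomial.lifts χ := by
    rw [lifts_iff_coeff_lifts]
    intro i
    rw [coeff_scaleRoots]
    rcases lt_trichotomy i q.natDegree with hi | hi | hi
    · refine ⟨a i * (∏ j ∈ (Finset.range q.natDegree).erase i, b j) * B ^ (q.natDegree - i - 1), ?_⟩
      rw [map_mul, map_mul, ← hab i, map_pow, mul_assoc (q.coeff i), ← map_mul,
        Finset.mul_prod_erase _ b (Finset.mem_range.2 hi)]
      show q.coeff i * χ B * χ B ^ _ = _
      rw [mul_assoc, ← pow_succ', show q.natDegree - i - 1 + 1 = q.natDegree - i by omega]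
    · exact ⟨1, by rw [hi, Nat.sub_self, pow_zero, mul_one, map_one]; exact (minpoly.monic hint).symm⟩
    · exact ⟨0, by rw [map_zero, coeff_eq_zero_of_natDegree_lt hi, zero_mul]⟩
  obtain ⟨f, hf, -, hfm⟩ := lifts_and_degree_eq_and_monic hmem ((monic_scaleRoots_iff c).2 (minpoly.monic hint))
  refine ⟨f, θ, hfm, ?_, ?_, hgen⟩
  · rw [hf, ← hq]; exact minpoly.aeval K θ
  · rw [hf, ← hq]
    exact (Algebra.IsSeparable.isSeparable K θ).aeval_derivative_ne_zero (minpoly.aeval K θ)

variable {X : Scheme.{u}}

/-- Etale neighbourhoods of a point lift. -/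
theorem dominated_point (x : X) {Ω : Type u} [Field Ω] [IsSepClosed Ω]
    (ξ : Spec (CommRingCat.of Ω) ⟶ Spec (X.residueField x)) :
    Dominated (X.fromSpecResidueField x) ξ := by
  intro U t
  have : Etale U.hom := U.prop
  obtain ⟨W₀, hW₀, hx, -⟩ := exists_isAffineOpen_mem_and_subset (X := X) (x := x) (U := ⊤) trivial
  let A := Γ(X, W₀)
  let K := X.residueField x
  let χ : A →+* K := (X.evaluation W₀ x hx).hom
  have hχ : ∀ z : K, ∃ a b, χ b ≠ 0 ∧ z * χ b = χ a := fun z => by
    obtain ⟨s, rfl⟩ := IsLocalRing.residue_surjective z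
    let : Algebra A (X.presheaf.stalk x) := (X.presheaf.germ W₀ x hx).hom.toAlgebra
    have : IsLocalization.AtPrime (X.presheaf.stalk x) (hW₀.primeIdealOf ⟨x, hx⟩).asIdeal :=
      hW₀.isLocalization_stalk ⟨x, hx⟩
    obtain ⟨⟨a, b⟩, h⟩ := IsLocalization.surj (hW₀.primeIdealOf ⟨x, hx⟩).asIdeal.primeCompl s
    refine ⟨a, b, ?_, ?_⟩
    · exact ((IsLocalization.map_units (X.presheaf.stalk x) b).map (X.residue x).hom).ne_zero
    · exact (map_mul (X.residue x).hom _ _).symm.trans (congrArg (X.residue x).hom h)
  have hjA : X.fromSpecResidueField x = Spec.map (X.evaluation W₀ x hx) ≫ hW₀.fromSpec := by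
    rw [Scheme.fromSpecResidueField, ← hW₀.fromSpecStalk_eq_fromSpecStalk hx, IsAffineOpen.fromSpecStalk,
      ← Category.assoc, ← Spec.map_comp]
    rfl
  -- the residue extension at the point
  let l := hom ξ t
  have hl : l ≫ U.hom = ξ := Over.w t
  obtain ⟨⟨u, a⟩, hla⟩ := (Scheme.SpecToEquivOfField Ω U.left).symm.surjective l
  let L := U.left.residueField u
  let ι : K ⟶ L := Spec.preimage (U.left.fromSpecResidueField u ≫ U.hom)
  have hι : Spec.map ι = U.left.fromSpecResidueField u ≫ U.hom := Spec.map_preimage _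
  let : Algebra K L := ι.hom.toAlgebra
  have hoi : IsOpenImmersion (U.left.fromSpecResidueField u) := by
    have hh := Unr57.isReduced_and_discrete (k := K) U.hom
    have : AlgebraicGeometry.IsReduced U.left := hh.1
    have : DiscreteTopology U.left := hh.2
    exact Unr57.isOpenImmersion_fromSpecResidueField u (isOpen_discrete _)
  have het : FiniteDimensional K L ∧ Algebra.IsSeparable K L := by
    have h : Etale (Spec.map ι) := by rw [hι]; infer_instance
    have h' : Algebra.Etale K L := HasRingHomProperty.Spec_iff.1 h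
    have : Algebra.EssFiniteType K L := inferInstance
    exact ⟨Algebra.FormallyUnramified.finite_of_free K L, Algebra.FormallyUnramified.isSeparable K L⟩
  have := het.1
  have := het.2
  obtain ⟨f, θ, hfm, hf0, hf1, hgen⟩ := exists_primitive_lift (L := L) χ hχ
  let P : StandardEtalePair A := ⟨f, hfm, f.derivative, 1, 0, 1, by simp⟩
  let aK : K ⟶ CommRingCat.of Ω := ι ≫ a
  let : Algebra A Ω := ((X.evaluation W₀ x hx) ≫ aK).hom.toAlgebra
  have hev : ∀ g : A[X], aeval (a.hom θ) g = a.hom (aeval θ (g.map χ)) := fun g => by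
    rw [aeval_def, aeval_def, eval₂_map, hom_eval₂]
    rfl
  have hmap : P.HasMap (a.hom θ) := by
    refine ⟨by rw [hev]; exact (congrArg a.hom hf0).trans (map_zero _), ?_⟩
    rw [hev, ← derivative_map]
    exact isUnit_iff_ne_zero.2 fun h => hf1 (a.hom.injective (h.trans (map_zero _).symm))
  let v : Spec (CommRingCat.of P.Ring) ⟶ Spec A := Spec.map (CommRingCat.ofHom (algebraMap A P.Ring))
  have : Etale v := HasRingHomProperty.Spec_iff.2 (RingHom.etale_algebraMap.2 inferInstance)
  let V : X.Etale := Scheme.Etale.mk (v ≫ hW₀.fromSpec)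
  have hξ : ξ = Spec.map aK := by
    rw [Spec.map_comp, hι, ← hl, ← hla]
    exact (Category.assoc _ _ _)
  let sm : Spec (CommRingCat.of Ω) ⟶ Spec (CommRingCat.of P.Ring) :=
    Spec.map (CommRingCat.ofHom (P.lift (a.hom θ) hmap).toRingHom)
  have hs : sm ≫ V.hom = ξ ≫ X.fromSpecResidueField x := by
    change sm ≫ v ≫ hW₀.fromSpec = _
    rw [hξ, hjA, ← Category.assoc, ← Category.assoc, ← Spec.map_comp, ← Spec.map_comp]
    congr 2
    exact CommRingCat.hom_ext (P.lift (a.hom θ) hmap).comp_algebraMap
  let s : Pt (ξ ≫ X.fromSpecResidueField x) V := mkPt _ sm hs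
  -- the point of the fibre
  let W := (EtCoh.bc (X.fromSpecResidueField x)).obj V
  let w : Spec (CommRingCat.of Ω) ⟶ W.left := hom ξ (ptUp (X.fromSpecResidueField x) ξ s)
  have hw1 : w ≫ pullback.fst V.hom (X.fromSpecResidueField x) = sm := pullback.lift_fst _ _ _
  have hw2 : w ≫ W.hom = ξ := Over.w (ptUp (X.fromSpecResidueField x) ξ s)
  have : Etale W.hom := W.prop
  obtain ⟨⟨p, b⟩, hwb⟩ := (Scheme.SpecToEquivOfField Ω W.left).symm.surjective w
  have hW := Unr57.isReduced_and_discrete (k := K) W.hom
  have : AlgebraicGeometry.IsReduced W.left := hW.1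
  have : DiscreteTopology W.left := hW.2
  have : IsPreimmersion (X.fromSpecResidueField x) := inferInstance
  have : IsOpenImmersion (W.left.fromSpecResidueField p) :=
    Unr57.isOpenImmersion_fromSpecResidueField p (isOpen_discrete _)
  let O : W.left.Opens := (W.left.fromSpecResidueField p).opensRange
  let e := (W.left.fromSpecResidueField p).isoOpensRange
  -- the field embedding
  let ι' : K ⟶ W.left.residueField p := Spec.preimage (W.left.fromSpecResidueField p ≫ W.hom)
  have hι' : Spec.map ι' = W.left.fromSpecResidueField p ≫ W.hom := Spec.map_preimage _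
  have hb : ι' ≫ b = ι ≫ a := Spec.map_injective (by
    rw [Spec.map_comp, hι', ← Category.assoc]
    exact ((congrArg (· ≫ W.hom) hwb).trans hw2).trans hξ)
  let : Algebra K Ω := aK.hom.toAlgebra
  let : Algebra K (W.left.residueField p) := ι'.hom.toAlgebra
  let aA : L →ₐ[K] Ω := { a.hom with commutes' := fun _ => rfl }
  let bA : W.left.residueField p →ₐ[K] Ω :=
    { b.hom with commutes' := fun z => congrArg (fun k => k.hom z) hb }
  have hθ : aA θ ∈ bA.fieldRange := by
    let π : CommRingCat.of P.Ring ⟶ W.left.residueField p :=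
      Spec.preimage (W.left.fromSpecResidueField p ≫ pullback.fst V.hom (X.fromSpecResidueField x))
    have h : π ≫ b = CommRingCat.ofHom (P.lift (a.hom θ) hmap).toRingHom := Spec.map_injective (by
      rw [Spec.map_comp, show Spec.map π = _ from Spec.map_preimage _, ← Category.assoc]
      exact (congrArg (· ≫ pullback.fst V.hom (X.fromSpecResidueField x)) hwb).trans hw1)
    refine ⟨π.hom P.X, (congrArg (fun k => k.hom P.X) h).trans ?_⟩
    exact P.lift_X _ hmap
  have hle : aA.fieldRange ≤ bA.fieldRange := by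
    rw [AlgHom.fieldRange_eq_map, ← hgen, IntermediateField.adjoin_map, IntermediateField.adjoin_le_iff,
      Set.image_singleton, Set.singleton_subset_iff]
    exact hθ
  let φ : L →ₐ[K] W.left.residueField p :=
    (AlgEquiv.ofInjectiveField bA).symm.toAlgHom.comp
      ((IntermediateField.inclusion hle).comp (AlgEquiv.ofInjectiveField aA).toAlgHom)
  have hφ : bA.comp φ = aA := AlgHom.ext fun z => by
    have h := congrArg Subtype.val ((AlgEquiv.ofInjectiveField bA).apply_symm_apply
      ((IntermediateField.inclusion hle) (AlgEquiv.ofInjectiveField aA z)))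
    exact h
  let φc : L ⟶ W.left.residueField p := CommRingCat.ofHom φ.toRingHom
  let g₀ : O.toScheme ⟶ U.left := e.inv ≫ Spec.map φc ≫ U.left.fromSpecResidueField u
  have hg₀ : g₀ ≫ U.hom = O.ι ≫ W.hom := by
    have h1 : ι ≫ φc = ι' := CommRingCat.hom_ext φ.comp_algebraMap
    rw [← cancel_epi e.hom, Category.assoc, Iso.hom_inv_id_assoc, Category.assoc, ← hι, ← Spec.map_comp, h1,
      hι']
    rw [← Category.assoc e.hom, Scheme.Hom.isoOpensRange_hom_ι]
  let Vt : (Spec (X.residueField x)).Etale := openSub W O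
  obtain ⟨V', h, s', hs', hr⟩ := openRefined_of_isEmbedding (X.fromSpecResidueField x) ξ
    (fun V =>
      have : IsPreimmersion (pullback.fst V.hom (X.fromSpecResidueField x)) :=
        MorphismProperty.pullback_fst (P := @IsPreimmersion) V.hom _ (inferInstanceAs (IsPreimmersion (X.fromSpecResidueField x)))
      (pullback.fst V.hom (X.fromSpecResidueField x)).isEmbedding.isInducing) V s O (by
      change hom ξ (ptUp (X.fromSpecResidueField x) ξ s) default ∈ Set.range (W.left.fromSpecResidueField p)
      rw [show hom ξ (ptUp (X.fromSpecResidueField x) ξ s) = _ from hwb.symm]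
      exact ⟨_, rfl⟩)
  let m : ((EtCoh.bc (X.fromSpecResidueField x)).obj V').left ⟶ O.toScheme :=
    IsOpenImmersion.lift O.ι ((EtCoh.bc (X.fromSpecResidueField x)).map h).left (hr.trans O.range_ι.ge)
  let g : (EtCoh.bc (X.fromSpecResidueField x)).obj V' ⟶ U := MorphismProperty.Over.homMk (m ≫ g₀) (by
    rw [Category.assoc, hg₀, ← Category.assoc, IsOpenImmersion.lift_fac]
    exact MorphismProperty.Over.w _) trivial
  refine ⟨V', s', g, hom_ext _ ?_⟩
  have hs'' : hom ξ (ptUp (X.fromSpecResidueField x) ξ s') ≫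
      ((EtCoh.bc (X.fromSpecResidueField x)).map h).left = w := by
    have := ptUp_map (X.fromSpecResidueField x) ξ h s'
    rw [hs'] at this
    exact (congrArg (fun q => hom ξ q) this).symm
  have hm : hom ξ (ptUp (X.fromSpecResidueField x) ξ s') ≫ m = Spec.map b ≫ e.hom := by
    rw [← cancel_mono O.ι, Category.assoc, IsOpenImmersion.lift_fac, hs'', Category.assoc]
    rw [Scheme.Hom.isoOpensRange_hom_ι]
    exact hwb.symm
  change hom ξ (ptUp (X.fromSpecResidueField x) ξ s') ≫ m ≫ g₀ = hom ξ t
  rw [← Category.assoc, hm, Category.assoc]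
  simp only [g₀, Iso.hom_inv_id_assoc]
  rw [← Category.assoc, ← Spec.map_comp,
    show φc ≫ b = a from CommRingCat.hom_ext (RingHom.ext fun z => AlgHom.congr_fun hφ z)]
  exact hla

theorem openRefined_point (x : X) {Ω : Type u} [Field Ω] [IsSepClosed Ω]
    (ξ : Spec (CommRingCat.of Ω) ⟶ Spec (X.residueField x)) :
    OpenRefined (X.fromSpecResidueField x) ξ :=
  openRefined_of_isEmbedding (X.fromSpecResidueField x) ξ fun V =>
    have : IsPreimmersion (pullback.fst V.hom (X.fromSpecResidueField x)) :=
      MorphismProperty.pullback_fst (P := @IsPreimmersion) V.hom _ (inferInstanceAs (IsPreimmersion (X.fromSpecResidueField x)))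
    (pullback.fst V.hom (X.fromSpecResidueField x)).isEmbedding.isInducing

/-- The unit of the point `x` is bijective on stalks over `x`. -/
theorem unit_point_stalk_bijective (x : X) (F : EtCoh.Ab X) {Ω : Type u} [Field Ω] [IsSepClosed Ω]
    (η : Spec (CommRingCat.of Ω) ⟶ X) (h : η default = x) :
    Function.Bijective ((EtCoh.stalk η).map ((EtCoh.pullPushAdj (X.fromSpecResidueField x)).unit.app F)) := by
  obtain ⟨⟨y, a⟩, rfl⟩ := (Scheme.SpecToEquivOfField Ω X).symm.surjective η
  obtain rfl : y = x := (X.fromSpecResidueField_apply y _).symm.trans h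
  exact unit_stalk_bijective (X.fromSpecResidueField y) (Spec.map a) F
    (pushStalkMap_bijective _ _ (dominated_point y (Spec.map a)) (openRefined_point y (Spec.map a)) _)

end Groth.Agent.CdP50
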