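import Groth.Agent.CdP50.Proper
import Groth.Agent.S0385
import Groth.Agent.WC97.Fixed
import Groth.Agent.FBase64.DimMaps
import Groth.Agent.Ega11.PointDim
import Groth.Agent.EtCore45.HpullUH

/-!
`cd_p ≤ n` for quasi-projective schemes of dimension `≤ n` over separably closed fields of
characteristic `p`.
-/

set_option autoImplicit false
set_option backward.isDefEq.respectTransparency.types false
universe u

open CategoryTheory CategoryTheory.Limits AlgebraicGeometry Opposite TopologicalSpace CategoryTheory.Abelian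
open Groth.Agent.Unr55

noncomputable section

namespace Groth.Agent.CdP50

variable {p : ℕ} [Fact p.Prime] {k : Type u} [Field k]

omit [Fact p.Prime] in
theorem natCast_eq_zero_of_charP [CharP k p] {Y : Scheme.{u}} (f : Y ⟶ Spec (CommRingCat.of k)) :
    (p : Γ(Y, ⊤)) = 0 := by
  let φ : k →+* Γ(Y, ⊤) := ((Scheme.ΓSpecIso (CommRingCat.of k)).inv ≫ f.appTop).hom
  rw [← map_natCast φ p, CharP.cast_eq_zero, map_zero]

/-- A finite morphism does not decrease the dimension. -/
theorem dim_le_of_finite {X Y : Scheme.{u}} (g : Y ⟶ X) [IsFinite g] :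
    topologicalKrullDim Y ≤ topologicalKrullDim X :=
  Ega11.PointDim.dim_le_of_fibres_discrete g.continuous fun a b hab e => by
    have := (g.isDiscrete_preimage_singleton (g a)).to_subtype
    exact congrArg Subtype.val ((subtype_specializes_iff
      (⟨a, rfl⟩ : (g ⁻¹' {g a} : Set Y)) ⟨b, e.symm⟩).2 hab).eq

/-- An open subscheme of a proper scheme of dimension `≤ n`. -/
theorem van_open [IsSepClosed k] [CharP k p] {Z : Scheme.{u}} (f : Z ⟶ Spec (CommRingCat.of k)) [IsProper f]
    {n : ℕ} (hn : topologicalKrullDim Z ≤ n) (U : Z.Opens) (q : ℕ) (hq : n < q) :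
    Subsingleton (EtCoh.H U.toScheme (EtCoh.const U.toScheme (ZMod p)) q) := by
  have hp : (p : Γ(Z, ⊤)) = 0 := natCast_eq_zero_of_charP f
  have hpU : (p : Γ(U.toScheme, ⊤)) = 0 := natCast_eq_zero_of_charP (U.ι ≫ f)
  have : IsLocallyNoetherian Z := LocallyOfFiniteType.isLocallyNoetherian f
  have : CompactSpace Z := QuasiCompact.compactSpace_of_compactSpace f
  have : IsNoetherian Z := { }
  have : NoetherianSpace U.toScheme := U.ι.isEmbedding.isInducing.noetherianSpace
  have hUn : topologicalKrullDim U.toScheme ≤ n := (topologicalKrullDim_subspace_le Z _).trans hn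
  have hvan : ∀ m, n < m → Subsingleton (Coh.HH U.toScheme (Coh.structureModule U.toScheme) m) :=
    fun m hm => qcoh_van_of_dim hUn _ m hm
  obtain ⟨q, rfl⟩ : ∃ m, q = m + 1 := ⟨q - 1, by omega⟩
  obtain rfl | hq' : q = n ∨ n < q := by omega
  · obtain ⟨e1⟩ := GaZar.H_Ga_equiv U.toScheme (q + 1)
    have := hvan (q + 1) (by omega)
    have hs1 : Subsingleton (EtCoh.H U.toScheme (EtCoh.Ga U.toScheme) (q + 1)) := e1.toEquiv.subsingleton
    obtain ⟨ε, hε⟩ := GaZar.H_Ga_equiv_end U.toScheme q
    refine subsingleton_of_forall_eq 0 fun x => ?_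
    have hS := EtAS.shortExact_seq hpU
    obtain ⟨y, rfl⟩ := Ext.covariant_sequence_exact₁ _ hS x (hs1.elim _ _) rfl
    obtain ⟨v, hv⟩ := surjective_phiO_open hp f hn U hpU (ε y)
    obtain ⟨z, rfl⟩ := ε.surjective v
    obtain rfl : z.comp (Ext.mk₀ (EtAS.phi hpU)) (add_zero q) = y :=
      ε.injective ((hε _ _ (EtAS.resGaIso_phi hpU) z).trans hv)
    change (z.comp (Ext.mk₀ (EtAS.seq hpU).g) (add_zero q)).comp hS.extClass rfl = 0
    rw [Ext.comp_assoc_of_second_deg_zero, hS.comp_extClass, Ext.comp_zero]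
  · exact subsingleton_H_const hpU (hvan q hq') (hvan (q + 1) (by omega))

/-- Cohomology of constant sheaves is invariant under isomorphisms. -/
theorem subsingleton_H_const_iso {Y U : Scheme.{u}} (e : Y ⟶ U) [IsIso e] (M : Type) [AddCommGroup M] {q : ℕ}
    (h : Subsingleton (EtCoh.H U (EtCoh.const U M) q)) : Subsingleton (EtCoh.H Y (EtCoh.const Y M) q) := by
  have := EtSh.preservesFiniteLimits_pull e
  exact Depth22.subsingleton_H_of_iso (EtCore.pullConst e M)
    ((EtCore45.Hpull_bijective_uh e (EtCoh.const U M) q).2.subsingleton)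

theorem constVan_quasiProjective [IsSepClosed k] [CharP k p] (X : Scheme.{u}) (f : X ⟶ Spec (CommRingCat.of k))
    [LocallyOfFiniteType f] {N : ℕ} (i : X ⟶ CohB1.ProjSpaceOver N (Spec (CommRingCat.of k))) [IsImmersion i]
    {n : ℕ} (hn : topologicalKrullDim X ≤ n) : ConstVan p X n := by
  intro Y g hg q hq
  let P := CohB1.ProjSpaceOver N (Spec (CommRingCat.of k))
  let b : P ⟶ Spec (CommRingCat.of k) := CohB1.ProjSpaceOver.toBase N _
  have : IsProper b := WC97.isProper_toBase N _
  have : IsLocallyNoetherian P := LocallyOfFiniteType.isLocallyNoetherian b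
  have : CompactSpace P := QuasiCompact.compactSpace_of_compactSpace b
  have : IsNoetherian P := { }
  have : NoetherianSpace X := i.isEmbedding.isInducing.noetherianSpace
  have : QuasiCompact i := quasiCompact_of_noetherianSpace_source i
  let s := g ≫ i
  have : IsLocallyNoetherian Y := LocallyOfFiniteType.isLocallyNoetherian (s ≫ b)
  obtain ⟨T, j, π, hj, hjqc, hπ, hjπ⟩ := S0385.result s
  let Z := j.image
  let c : Z ⟶ Spec (CommRingCat.of k) := j.imageι ≫ π ≫ b
  have : IsProper c := inferInstance
  let t : Y ⟶ Z := j.toImage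
  have : IsOpenImmersion t := inferInstanceAs (IsOpenImmersion j.toImage)
  have hd : Dense (t.opensRange : Set Z) := t.denseRange
  have hZ : topologicalKrullDim Z ≤ n := by
    rw [← FBase64.DimMaps.dim_open_eq c t.opensRange hd,
      ← IsHomeomorph.topologicalKrullDim_eq _ t.isoOpensRange.hom.homeomorph.isHomeomorph]
    exact (dim_le_of_finite g).trans hn
  exact subsingleton_H_const_iso t.isoOpensRange.hom (ZMod p) (van_open c hZ _ q hq)

end Groth.Agent.CdP50
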