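import Groth.Agent.Unr55.FrobSemi
import Mathlib.RingTheory.Unramified.Field
import Mathlib.RingTheory.Kaehler.Basic
import Mathlib.FieldTheory.IsSepClosed
import Mathlib.FieldTheory.IntermediateField.Adjoin.Algebra

/-!
`F - 1` is surjective for Frobenius semilinear endomorphisms of finite dimensional vector spaces over
separably closed fields.
-/

set_option autoImplicit false
universe u

namespace Groth.Agent.CdP50

open IntermediateField

/-- The equations `∑ j, A i j * (x j) ^ p - x i = b i` have solutions in a separably closed field. -/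
theorem exists_solution (k : Type u) [Field k] [IsSepClosed k] (p : ℕ) [Fact p.Prime] [CharP k p]
    {ι : Type} [Fintype ι] (A : ι → ι → k) (b : ι → k) :
    ∃ x : ι → k, ∀ i, ∑ j, A i j * x j ^ p - x i = b i := by
  classical
  let K := AlgebraicClosure k
  have : CharP K p := charP_of_injective_algebraMap (algebraMap k K).injective p
  let G : (ι → K) →+ (ι → K) := AddMonoidHom.mk' (fun x i => ∑ j, algebraMap k K (A i j) * x j ^ p)
    (fun x y => funext fun i => by simp [add_pow_char, mul_add, Finset.sum_add_distrib])
  obtain ⟨x, hx⟩ := Unr55.FrobSemi.surjective_sub_id (k := K) p G (fun c v => funext fun i => by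
    simp [G, mul_pow, mul_left_comm, ← Finset.mul_sum]) (fun i => algebraMap k K (b i))
  let L : IntermediateField k K := adjoin k (Set.range x)
  have : FiniteDimensional k L := finiteDimensional_adjoin fun a _ =>
    (Algebra.IsAlgebraic.isAlgebraic a).isIntegral
  let x' : ι → L := fun i => ⟨x i, subset_adjoin k _ ⟨i, rfl⟩⟩
  have hx' : ∀ i, ∑ j, algebraMap k L (A i j) * x' j ^ p - x' i = algebraMap k L (b i) := fun i =>
    (algebraMap L K).injective (by simpa [x', G] using congrFun hx i)
  have : CharP L p := charP_of_injective_algebraMap (algebraMap k L).injective p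
  let D := KaehlerDifferential.D k L
  have hD : ∀ i, D (x' i) = 0 := fun i => by
    have h := congrArg D (hx' i)
    simpa [Derivation.leibniz_pow, Derivation.leibniz, ← Nat.cast_smul_eq_nsmul L, CharP.cast_eq_zero L p] using h
  have hgen : Algebra.adjoin k (Set.range x') = ⊤ := by
    apply Subalgebra.map_injective (f := L.val) Subtype.val_injective
    rw [AlgHom.map_adjoin, ← Set.range_comp, Algebra.map_top]
    refine (adjoin_toSubalgebra_of_isAlgebraic fun a _ => Algebra.IsAlgebraic.isAlgebraic a).symm.trans ?_
    ext a
    exact ⟨fun h => ⟨⟨a, h⟩, rfl⟩, by rintro ⟨a, rfl⟩; exact a.2⟩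
  have : Subsingleton (KaehlerDifferential k L) := subsingleton_of_forall_eq 0 fun ω => by
    have h0 : D = 0 := Derivation.ext_of_adjoin_eq_top _ hgen (by rintro _ ⟨i, rfl⟩; simpa using hD i)
    have hω : ω ∈ Submodule.span L (Set.range D) := by
      rw [KaehlerDifferential.span_range_derivation]; trivial
    rw [h0] at hω
    exact Submodule.span_induction (p := fun ω _ => ω = 0) (by rintro _ ⟨a, rfl⟩; rfl) rfl
      (fun a c _ _ ha hc => by rw [ha, hc, add_zero]) (fun a c _ hc => by rw [hc, smul_zero]) hω
  have : Algebra.FormallyUnramified k L := ⟨inferInstance⟩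
  have : Algebra.EssFiniteType k L := inferInstance
  have : Algebra.IsSeparable k L := Algebra.FormallyUnramified.isSeparable k L
  choose z hz using fun i => IsSepClosed.algebraMap_surjective k L (x' i)
  refine ⟨z, fun i => (algebraMap k L).injective ?_⟩
  rw [← hx' i]
  simp [hz]

/-- `F - 1` is surjective. -/
theorem surjective_sub_id {k V : Type u} [Field k] [IsSepClosed k] (p : ℕ) [Fact p.Prime] [CharP k p]
    [AddCommGroup V] [Module k V] [FiniteDimensional k V] (F : V →+ V)
    (hF : ∀ (c : k) (v : V), F (c • v) = c ^ p • F v) : Function.Surjective fun v => F v - v := by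
  intro y
  let B := Module.finBasis k V
  obtain ⟨x, hx⟩ := exists_solution k p (fun i j => B.repr (F (B j)) i) (fun i => B.repr y i)
  refine ⟨∑ j, x j • B j, B.repr.injective (Finsupp.ext fun i => ?_)⟩
  show B.repr (F (∑ j, x j • B j) - ∑ j, x j • B j) i = _
  simp only [hF, map_sub, map_sum, map_smul, Finsupp.sub_apply, Finsupp.coe_finset_sum, Finset.sum_apply,
    Finsupp.coe_smul, Pi.smul_apply, smul_eq_mul, B.repr_self, Finsupp.single_apply]
  simpa [mul_comm] using hx i

end Groth.Agent.CdP50
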