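import Groth.Agent.CdP50.AS
import Groth.Agent.CdP50.Extend
import Groth.Agent.CdP50.SepClosed
import Groth.Agent.Unr55.Et.ASFinite
import Groth.Agent.LocCohZ46.Open
import Groth.Agent.TopCoh49.Compare

/-!
Frobenius minus the identity is surjective on top coherent cohomology of open subschemes of proper
schemes over separably closed fields.
-/

set_option autoImplicit false
set_option backward.isDefEq.respectTransparency.types false
universe u

open CategoryTheory CategoryTheory.Limits AlgebraicGeometry Opposite TopologicalSpace CategoryTheory.Abelian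
open Groth.Agent.Unr55

noncomputable section

namespace Groth.Agent.CdP50

variable {X : Scheme.{u}} {p : ℕ} [Fact p.Prime] {k : Type u} [Field k] [IsSepClosed k] [CharP k p]

/-- `F - 1` on the coherent cohomology of a proper scheme. -/
theorem surjective_phiO (hp : (p : Γ(X, ⊤)) = 0) (f : X ⟶ Spec (CommRingCat.of k)) [IsProper f] (q : ℕ) :
    Function.Surjective fun v : Coh.HH X (Coh.structureModule X) q =>
      v.comp (Ext.mk₀ (EtAS.phiO hp)) (add_zero q) := by
  let : X.Over (Spec (CommRingCat.of k)) := ⟨f⟩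
  have : IsProper (X ↘ Spec (CommRingCat.of k)) := ‹IsProper f›
  let V := Coh.HH X (Coh.structureModule X) q
  have : Module.Finite k V :=
    Serre71.finite_hh_of_isProper k (Coh.structureModule X) Crv77.isCoh_structureModule q
  let F : V →+ V := Sheaf.H.map (EtAS.frobO hp) q
  have hF : ∀ (c : k) (v : V), F (c • v) = c ^ p • F v := fun c v => by
    let a := Coh.toGlobal (X ↘ Spec (CommRingCat.of k)) c
    have ha : Coh.toGlobal (X ↘ Spec (CommRingCat.of k)) (c ^ p) = a ^ p := map_pow _ c p
    rw [Crv77.smul_eq_map, Crv77.smul_eq_map, ha]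
    change Sheaf.H.map (EtAS.frobO hp) q (Sheaf.H.map (Coh.smulAb (Coh.structureModule X) a) q v) =
      Sheaf.H.map (Coh.smulAb (Coh.structureModule X) (a ^ p)) q (Sheaf.H.map (EtAS.frobO hp) q v)
    rw [← Sheaf.H.map_comp_apply, ← Sheaf.H.map_comp_apply, EtAS.frobO_semilinear]
  intro y
  obtain ⟨v, hv⟩ := surjective_sub_id p F hF y
  refine ⟨v, ?_⟩
  have h := Sheaf.H.map_add_apply (EtAS.phiO hp) (𝟙 _) (n := q) v
  rw [show EtAS.phiO hp + 𝟙 _ = EtAS.frobO hp from sub_add_cancel _ _, Sheaf.H.map_id_apply] at h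
  exact (eq_sub_of_add_eq h.symm).trans hv

/-- Surjectivity of an endomorphism on top cohomology passes to open subspaces. -/
theorem surjective_restr {X : TopCat.{u}} [NoetherianSpace X] {n : ℕ} (hn : topologicalKrullDim X ≤ n)
    (U : Opens X) (O : CohTop.Ab X) (g : O ⟶ O)
    (hg : Function.Surjective fun v : CohTop.H O n => v.comp (Ext.mk₀ g) (add_zero n)) :
    Function.Surjective fun v : CohTop.H ((CohTop.restrFunctor U).obj O) n =>
      v.comp (Ext.mk₀ ((CohTop.restrFunctor U).map g)) (add_zero n) := by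
  have hU : Function.Surjective fun a : TopCoh49.E O n U => a.comp (Ext.mk₀ g) (add_zero n) := by
    intro a
    obtain ⟨b, rfl⟩ := eres_surjective_of_dim_le hn O U a
    obtain ⟨v, rfl⟩ := (TopCoh49.HEquivTop O n).surjective b
    obtain ⟨w, hw⟩ := hg v
    refine ⟨TopCoh49.eres O n le_top (TopCoh49.HEquivTop O n w), ?_⟩
    have h1 : TopCoh49.HEquivTop O n v =
        TopCoh49.emap g n ⊤ (TopCoh49.HEquivTop O n w) :=
      (congrArg (TopCoh49.HEquivTop O n) hw.symm).trans (TopCoh49.HEquivTop_map g n w)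
    calc _ = TopCoh49.emap g n U (TopCoh49.eres O n le_top (TopCoh49.HEquivTop O n w)) := rfl
      _ = TopCoh49.eres O n le_top (TopCoh49.emap g n ⊤ (TopCoh49.HEquivTop O n w)) :=
        Ext.comp_assoc_of_third_deg_zero _ _ _ (zero_add n)
      _ = _ := by rw [← h1]
  have hex : ∀ S : ShortComplex (CohTop.Ab X), S.ShortExact → Injective S.X₂ → True →
      (S.map (CohTop.restrFunctor U)).ShortExact := fun S hS _ _ => TopCoh49.restr_shortExact U hS
  let e : ∀ F : CohTop.Ab X, (TopCoh49.freeU U ⟶ F) ≃+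
      (TopCoh49.constZ (TopCat.of U) ⟶ (CohTop.restrFunctor U).obj F) := fun F =>
    (TopCoh49.freeHomAddEquiv U F).trans
      ((F.obj.mapIso (eqToIso (congrArg op (TopCoh49.imOpen_top U).symm))).addCommGroupIsoToAddEquiv.trans
        (ExtCmp.homTop (isTerminalTop (α := Opens (TopCat.of U))) ((CohTop.restrFunctor U).obj F)).symm)
  have he : ∀ {F G : CohTop.Ab X} (g : F ⟶ G) (c : TopCoh49.freeU U ⟶ F),
      e G (c ≫ g) = e F c ≫ (CohTop.restrFunctor U).map g := by
    intro F G g c
    apply (ExtCmp.homTop (isTerminalTop (α := Opens (TopCat.of U))) ((CohTop.restrFunctor U).obj G)).injective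
    refine (AddEquiv.apply_symm_apply _ _).trans ?_
    refine Eq.trans ?_ (ExtCmp.homTop_comp (isTerminalTop (α := Opens (TopCat.of U)))
      ((CohTop.restrFunctor U).map g) (e F c)).symm
    refine Eq.trans ?_ (congrArg (((CohTop.restrFunctor U).map g).hom.app (op ⊤))
      (AddEquiv.apply_symm_apply _ _)).symm
    refine (congrArg (G.obj.map _) (TopCoh49.freeHomEquiv_comp U c g)).trans ?_
    exact (NatTrans.naturality_apply g.hom _ _).symm
  obtain ⟨ε, hε⟩ := ExtCmp.compare_end (CohTop.restrFunctor U) (TopCoh49.freeU U)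
    (TopCoh49.constZ (TopCat.of U)) (fun _ => True) hex (fun _ _ _ _ => trivial)
    (fun I hI m => by
      have := LocCohZ46.injective_restr U I
      exact Ext.subsingleton_of_injective _ ((CohTop.restrFunctor U).obj I) m)
    e he n O trivial
  intro v
  obtain ⟨a, rfl⟩ := ε.surjective v
  obtain ⟨b, rfl⟩ := hU a
  exact ⟨ε b, (hε _ b).symm⟩

theorem phiO_restr (hp : (p : Γ(X, ⊤)) = 0) (U : X.Opens) (hpU : (p : Γ(U.toScheme, ⊤)) = 0) :
    (CohTop.restrFunctor (X := X.toTopCat) U).map (EtAS.phiO hp) = EtAS.phiO hpU := rfl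

/-- `F - 1` on the top coherent cohomology of an open subscheme of a proper scheme. -/
theorem surjective_phiO_open (hp : (p : Γ(X, ⊤)) = 0) (f : X ⟶ Spec (CommRingCat.of k)) [IsProper f]
    [NoetherianSpace X] {n : ℕ} (hn : topologicalKrullDim X ≤ n) (U : X.Opens)
    (hpU : (p : Γ(U.toScheme, ⊤)) = 0) :
    Function.Surjective fun v : Coh.HH U.toScheme (Coh.structureModule U.toScheme) n =>
      v.comp (Ext.mk₀ (EtAS.phiO hpU)) (add_zero n) := by
  have h := @surjective_restr X.toTopCat ‹NoetherianSpace X› n hn U (Coh.toAb (Coh.structureModule X))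
    (EtAS.phiO hp) (surjective_phiO hp f n)
  rw [phiO_restr hp U hpU] at h
  exact h

end Groth.Agent.CdP50
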