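import Groth.Agent.CdP50.TdegBound
import Groth.Agent.E4O.BaseChangeDim
import Groth.Agent.E4O.FibreComp
import Groth.Agent.PBC51.BaseChange

/-!
Higher direct images of torsion sheaves along a proper map above twice the fibre dimension.
-/

set_option autoImplicit false
set_option backward.isDefEq.respectTransparency.types false
universe u

open CategoryTheory CategoryTheory.Limits AlgebraicGeometry Opposite TopologicalSpace

namespace Groth.Agent.CdP50

theorem isZero_Rpush_proper {X Y : Scheme.{u}} (f : X ⟶ Y) [IsProper f]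
    (n : ℕ) (hdim : ∀ y : Y, topologicalKrullDim (f.fiber y) ≤ n)
    (F : EtCoh.Ab X) (hF : EtCoh.IsTorsion F) (q : ℕ) (hq : 2 * n < q) :
    IsZero ((EtCoh.Rpush f q).obj F) := by
  refine EtCore45.isZero_of_stalks _ fun Ω _ _ ξ => ?_
  obtain ⟨e⟩ := PBC51.nonempty_stalk_Rpush_proper f ξ F hF q
  let P := pullback f ξ
  let s : P ⟶ Spec (CommRingCat.of Ω) := pullback.snd f ξ
  have : IsLocallyNoetherian P := LocallyOfFiniteType.isLocallyNoetherian s
  have : CompactSpace P := QuasiCompact.compactSpace_of_compactSpace s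
  have : IsNoetherian P := {}
  have hn : ∀ a : P, WC97.tdeg s a ≤ n := fun a => by
    rw [WC97.tdeg_eq_natCast s a, ← fdeg_eq_tdegN s a]
    have h1 := E4O.fdeg_le_of_isPullback (IsPullback.of_hasPullback f ξ) a
    obtain ⟨z, hz⟩ := E4O.exists_fiberι_eq f (rfl : f (pullback.fst f ξ a) = _)
    have h2 : topologicalKrullDim ↥(closure ({z} : Set ↥(f.fiber _))) ≤ n :=
      (topologicalKrullDim_subspace_le _ _).trans (hdim _)
    rw [E4O.dim_closure_fiber f _ z, hz] at h2
    have h3 : E4O.fdeg f (pullback.fst f ξ a) ≤ n := by exact_mod_cast h2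
    exact_mod_cast (h1.trans h3)
  have h := cohDimLE_of_forall_prime (fun ℓ hℓ => cohDimLEAt_of_tdeg_le s hℓ
    (fun G hG b hb => cohDimLEAt_sepClosed Ω ℓ G hG b hb) hn) _
      (Cons51.isTorsion_pull (pullback.fst f ξ) hF) q (by omega)
  exact (@AddCommGrpCat.isZero_of_subsingleton _ h).of_iso e

end Groth.Agent.CdP50
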