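import Groth.Agent.CdP50.TdegBound
import Groth.Agent.E4O.BaseChangeDim
import Groth.Agent.Cyc90.FlatRelDim
/-!
Higher direct images of torsion sheaves between schemes of finite type over a field.
-/

set_option autoImplicit false
set_option backward.isDefEq.respectTransparency.types false
universe u
open CategoryTheory CategoryTheory.Limits AlgebraicGeometry Opposite TopologicalSpace
open scoped TensorProduct
namespace Groth.Agent.CdP50

/-- A field generated by a strict localization over the residue field of a point is algebraic over it. -/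
theorem isAlgebraic_of_strictHens {Y : Scheme.{u}} [IsLocallyNoetherian Y] {x y : Y} (hxy : x ⤳ y)
    (R : Type u) [CommRing R] [IsLocalRing R] [Algebra (Y.presheaf.stalk y) R]
    [IsLocalHom (algebraMap (Y.presheaf.stalk y) R)] [Hensel.IsStrictHenselization (Y.presheaf.stalk y) R]
    {L : Type u} [Field L] (θ : R →+* L) (hgen : ∀ z : L, ∃ a b : R, z = θ a / θ b) (j : Y.residueField x →+* L)
    (hj : ∀ a, j (Cyc.specMap y x hxy a) = θ (algebraMap (Y.presheaf.stalk y) R a)) :
    @Algebra.IsAlgebraic (Y.residueField x) L _ _ j.toAlgebra := by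
  let A := Y.presheaf.stalk y
  let px := RingHom.ker (Cyc.specMap y x hxy)
  have : px.IsPrime := RingHom.ker_isPrime _
  let jAlg : Algebra (Y.residueField x) L := j.toAlgebra
  have hker : ∀ a ∈ px.primeCompl, IsUnit (Cyc.specMap y x hxy a) := fun a ha => isUnit_iff_ne_zero.2 ha
  let i : px.ResidueField →+* Y.residueField x :=
    Ideal.ResidueField.lift px (Cyc.specMap y x hxy) le_rfl hker
  obtain ⟨n, K, _, _, hsep, ⟨eK⟩⟩ := S2817.result A R px
  let : Algebra A L := (θ.comp (algebraMap A R)).toAlgebra
  let : Algebra px.ResidueField L := (j.comp i).toAlgebra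
  have : IsScalarTower A px.ResidueField L := IsScalarTower.of_algebraMap_eq (R := A) (S := px.ResidueField) (A := L) fun a => by
    change θ (algebraMap A R a) = j (i (algebraMap A px.ResidueField a))
    rw [Ideal.ResidueField.lift_algebraMap, hj]
  let θA : R →ₐ[A] L := { θ with commutes' := fun a => rfl }
  let Φ : px.ResidueField ⊗[A] R →ₐ[px.ResidueField] L :=
    Algebra.TensorProduct.lift (Algebra.ofId px.ResidueField L) θA fun _ _ => mul_comm _ _
  have hint : ∀ r : R, IsIntegral (Y.residueField x) (θ r) := fun r => by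
    have h1 : IsIntegral px.ResidueField ((1 : px.ResidueField) ⊗ₜ[A] r) := by
      have : ∀ m, Algebra.IsAlgebraic px.ResidueField (K m) := fun m => inferInstance
      refine (isIntegral_algEquiv eK).1 ?_
      have hm : ∀ m, IsIntegral px.ResidueField (eK ((1 : px.ResidueField) ⊗ₜ[A] r) m) := fun m =>
        Algebra.IsIntegral.isIntegral _
      refine ⟨∏ m, minpoly px.ResidueField (eK ((1 : px.ResidueField) ⊗ₜ[A] r) m),
        Polynomial.monic_prod_of_monic _ _ fun m _ => minpoly.monic (hm m), ?_⟩
      rw [← Polynomial.aeval_def]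
      ext m
      rw [← Pi.evalAlgHom_apply (R := px.ResidueField) (A := K) m (Polynomial.aeval _ _), ← Polynomial.aeval_algHom_apply,
        map_prod]
      exact Finset.prod_eq_zero (Finset.mem_univ m) (minpoly.aeval _ _)
    have h2 : IsIntegral px.ResidueField (θ r) := by
      have := h1.map Φ
      rwa [show Φ ((1 : px.ResidueField) ⊗ₜ[A] r) = θ r by simp [Φ, θA]] at this
    obtain ⟨p, hp, hp0⟩ := h2
    exact ⟨p.map i, hp.map i, (Polynomial.eval₂_map i j (θ r)).trans hp0⟩
  refine ⟨fun z => ?_⟩
  obtain ⟨a, b, rfl⟩ := hgen z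
  rw [div_eq_mul_inv]
  exact (hint a).isAlgebraic.mul (hint b).isAlgebraic.inv

variable {K : Type u} [Field K] {Y : Scheme.{u}} [IsLocallyNoetherian Y] (b : Y ⟶ Spec (CommRingCat.of K))

/-- The residue fields of a strict localization have the transcendence degrees of their images. -/
theorem tdeg_specOf (y : Y) (R : Type u) [CommRing R] [IsLocalRing R] [Algebra (Y.presheaf.stalk y) R]
    [IsLocalHom (algebraMap (Y.presheaf.stalk y) R)] [Hensel.IsStrictHenselization (Y.presheaf.stalk y) R]
    (r : Spec (CommRingCat.of R)) : WC97.tdeg (Hens2.specOf Y y R ≫ b) r = WC97.tdeg b (Hens2.specOf Y y R r) := by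
  let s := Hens2.specOf Y y R
  let x := s r
  have hxy : x ⤳ y := by
    have h : x ∈ Set.range (Y.fromSpecStalk y) := ⟨_, rfl⟩
    rwa [Scheme.range_fromSpecStalk] at h
  let L := (Spec (CommRingCat.of R)).residueField r
  let θ : R →+* L := (Scheme.Spec.residueFieldIso (CommRingCat.of R) r).inv.hom.comp (algebraMap R r.asIdeal.ResidueField)
  have hgen : ∀ z : L, ∃ p q : R, z = θ p / θ q := fun z => by
    obtain ⟨p, q, -, hpq⟩ := IsFractionRing.div_surjective (A := R ⧸ r.asIdeal)
      ((Scheme.Spec.residueFieldIso (CommRingCat.of R) r).hom z)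
    obtain ⟨p, rfl⟩ := Ideal.Quotient.mk_surjective p
    obtain ⟨q, rfl⟩ := Ideal.Quotient.mk_surjective q
    refine ⟨p, q, ?_⟩
    rw [show z = (Scheme.Spec.residueFieldIso (CommRingCat.of R) r).inv
      ((Scheme.Spec.residueFieldIso (CommRingCat.of R) r).hom z) from (Iso.hom_inv_id_apply _ z).symm, ← hpq]
    exact map_div₀ (Scheme.Spec.residueFieldIso (CommRingCat.of R) r).inv.hom _ _
  let j : Y.residueField x →+* L := (s.residueFieldMap r).hom
  have hθ : Spec.map (CommRingCat.ofHom θ) = (Spec (CommRingCat.of R)).fromSpecResidueField r := by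
    change Spec.map (CommRingCat.ofHom (algebraMap R r.asIdeal.ResidueField) ≫
      (Scheme.Spec.residueFieldIso (CommRingCat.of R) r).inv) = _
    rw [Spec.map_comp]
    exact Scheme.Spec.map_residueFieldIso_inv_eq_fromSpecResidueField _ _
  have hj : CommRingCat.ofHom (algebraMap (Y.presheaf.stalk y) R) ≫ CommRingCat.ofHom θ =
      (Y.presheaf.stalkSpecializes hxy ≫ Y.residue x) ≫ s.residueFieldMap r := by
    apply Spec.map_injective
    rw [← cancel_mono (Y.fromSpecStalk y), Spec.map_comp, Spec.map_comp, hθ, Category.assoc, Category.assoc]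
    have h1 : Spec.map (Y.presheaf.stalkSpecializes hxy ≫ Y.residue x) ≫ Y.fromSpecStalk y = Y.fromSpecResidueField x := by
      rw [Spec.map_comp, Category.assoc, Scheme.SpecMap_stalkSpecializes_fromSpecStalk]
      rfl
    rw [h1, Scheme.Hom.SpecMap_residueFieldMap_fromSpecResidueField]
  have halg := isAlgebraic_of_strictHens hxy R θ hgen j (fun a => (congrArg (fun φ => φ.hom a) hj).symm)
  let : Algebra K (Y.residueField x) := (WC97.kStr b x).toAlgebra
  let : Algebra K L := (WC97.kStr (s ≫ b) r).toAlgebra
  let : Algebra (Y.residueField x) L := j.toAlgebra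
  have : IsScalarTower K (Y.residueField x) L :=
    .of_algebraMap_eq fun c => RingHom.congr_fun (WC97.kStr_comp s (s ≫ b) b rfl r) c
  show Algebra.trdeg K L = Algebra.trdeg K (Y.residueField x)
  rw [← trdeg_add_eq K (Y.residueField x) (A := L), trdeg_eq_zero (R := Y.residueField x) (A := L), add_zero]

/-- A bound on the higher direct images of a morphism between schemes of finite type over a field. -/
theorem isZero_Rpush_finiteType {X : Scheme.{u}} (a : X ⟶ Spec (CommRingCat.of K)) [LocallyOfFiniteType a]
    [QuasiCompact a] [LocallyOfFiniteType b] [QuasiCompact b] (f : X ⟶ Y) (w : f ≫ b = a) {n : ℕ}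
    (hn : topologicalKrullDim X ≤ n) (F : EtCoh.Ab X) (hF : EtCoh.IsTorsion F) (q : ℕ) (hq : 2 * n < q) :
    IsZero ((EtCoh.Rpush f q).obj F) := by
  have : LocallyOfFiniteType f := by subst w; exact locallyOfFiniteType_of_comp f b
  have : CompactSpace Y := QuasiCompact.compactSpace_of_compactSpace b
  have : CompactSpace X := QuasiCompact.compactSpace_of_compactSpace a
  have : IsNoetherian Y := {}
  have : QuasiCompact f := by subst w; exact QuasiCompact.of_comp f b
  have : IsLocallyNoetherian X := LocallyOfFiniteType.isLocallyNoetherian a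
  have : QuasiSeparated f := inferInstance
  refine isZero_of_supp_empty (Set.eq_empty_iff_forall_notMem.2 fun y => ?_)
  obtain ⟨R, _, _, _, _, hR⟩ := S0537.result (Y.presheaf.stalk y)
  have := hR
  have hsep : IsSepClosed (IsLocalRing.ResidueField R) := hR.isSepClosure.sep_closed
  obtain ⟨e⟩ := S0620.result f F y R q
  let s := Hens2.specOf Y y R
  let Z := pullback f s
  let t : Z ⟶ Spec (CommRingCat.of R) := pullback.snd f s
  have : IsNoetherianRing R := (S0540.result (Y.presheaf.stalk y) R).1 inferInstance
  have : IsLocallyNoetherian Z := LocallyOfFiniteType.isLocallyNoetherian t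
  have : CompactSpace Z := QuasiCompact.compactSpace_of_compactSpace t
  have : IsNoetherian Z := {}
  let A := Y.presheaf.stalk y
  let ks : K →+* A := (Spec.preimage (Y.fromSpecStalk y ≫ b)).hom
  let : Algebra K A := ks.toAlgebra
  obtain ⟨E, _, _, _, i, hi, -⟩ := exists_sepClosed_subfield K A R
  let π : Z ⟶ Spec (CommRingCat.of E) := t ≫ Spec.map (CommRingCat.ofHom i)
  have hπ : π ≫ Spec.map (CommRingCat.ofHom (algebraMap K E)) = t ≫ s ≫ b := by
    rw [Category.assoc, ← Spec.map_comp]
    congr 1
    have : CommRingCat.ofHom (algebraMap K E) ≫ CommRingCat.ofHom i = CommRingCat.ofHom ks ≫ CommRingCat.ofHom (algebraMap A R) :=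
      CommRingCat.hom_ext (RingHom.ext hi)
    rw [this, Spec.map_comp]
    change _ = (Spec.map (CommRingCat.ofHom (algebraMap A R)) ≫ Y.fromSpecStalk y) ≫ b
    rw [Category.assoc]
    exact congrArg _ (Spec.map_preimage _)
  have hbound : ∀ z : Z, WC97.tdeg π z ≤ n := fun z => by
    let x := pullback.fst f s z
    let r := t z
    have hK : WC97.tdeg (t ≫ s ≫ b) z ≤ n := by
      have hy' : f x = s r := by
        rw [← Scheme.Hom.comp_apply, pullback.condition, Scheme.Hom.comp_apply]
      let : Algebra K ((Spec (CommRingCat.of R)).residueField r) := (WC97.kStr (s ≫ b) r).toAlgebra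
      let : Algebra K (Z.residueField z) := (WC97.kStr (t ≫ s ≫ b) z).toAlgebra
      let : Algebra ((Spec (CommRingCat.of R)).residueField r) (Z.residueField z) := (t.residueFieldMap z).hom.toAlgebra
      have : IsScalarTower K ((Spec (CommRingCat.of R)).residueField r) (Z.residueField z) :=
        .of_algebraMap_eq fun c => RingHom.congr_fun (WC97.kStr_comp t (t ≫ s ≫ b) (s ≫ b) rfl z) c
      let : Algebra K (Y.residueField (f x)) := (WC97.kStr b (f x)).toAlgebra
      let : Algebra K (X.residueField x) := (WC97.kStr a x).toAlgebra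
      let : Algebra (Y.residueField (f x)) (X.residueField x) := (f.residueFieldMap x).hom.toAlgebra
      have : IsScalarTower K (Y.residueField (f x)) (X.residueField x) :=
        .of_algebraMap_eq fun c => RingHom.congr_fun (WC97.kStr_comp f a b w x) c
      have h1 : WC97.tdeg (t ≫ s ≫ b) z = WC97.tdeg (s ≫ b) r + (E4O.fdeg t z : Cardinal.{u}) := by
        rw [← Cyc90.trdeg_residueField_eq_fdeg t z]
        exact (trdeg_add_eq K ((Spec (CommRingCat.of R)).residueField r) (A := Z.residueField z)).symm
      have h2 : WC97.tdeg a x = WC97.tdeg b (f x) + (E4O.fdeg f x : Cardinal.{u}) := by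
        rw [← Cyc90.trdeg_residueField_eq_fdeg f x]
        exact (trdeg_add_eq K (Y.residueField (f x)) (A := X.residueField x)).symm
      have h3 : (E4O.fdeg t z : Cardinal.{u}) ≤ E4O.fdeg f x := by
        exact_mod_cast E4O.fdeg_le_of_isPullback (IsPullback.of_hasPullback f s) z
      have h4 : WC97.tdeg a x ≤ n := by
        rw [WC97.tdeg_eq_natCast a x]
        have h := (topologicalKrullDim_subspace_le X (closure ({x} : Set X))).trans hn
        rw [WC97.topologicalKrullDim_closure a x] at h
        exact_mod_cast h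
      rw [h1, tdeg_specOf b y R r, ← hy']
      exact (add_le_add le_rfl h3).trans (h2.ge.trans h4)
    let : Algebra K (Z.residueField z) := (WC97.kStr (t ≫ s ≫ b) z).toAlgebra
    let : Algebra E (Z.residueField z) := (WC97.kStr π z).toAlgebra
    have : IsScalarTower K E (Z.residueField z) := .of_algebraMap_eq fun c => by
      have : CommRingCat.ofHom (WC97.kStr (t ≫ s ≫ b) z) =
          CommRingCat.ofHom (algebraMap K E) ≫ CommRingCat.ofHom (WC97.kStr π z) := by
        apply Spec.map_injective
        rw [Spec.map_comp, WC97.kStr_spec, WC97.kStr_spec, Category.assoc]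
        exact congrArg (Z.fromSpecResidueField z ≫ ·) hπ.symm
      exact congrArg (fun φ => φ.hom c) this
    have h := trdeg_add_eq K E (A := Z.residueField z)
    exact (le_add_self.trans h.le).trans hK
  have h := cohDimLE_of_forall_prime (fun ℓ hℓ => cohDimLEAt_of_tdeg_le π hℓ
    (fun G hG b hb => cohDimLEAt_sepClosed E ℓ G hG b hb) hbound) _
      (Cons51.isTorsion_pull (pullback.fst f s) hF) q (by omega)
  have hpt : Hens2.geomPt Y y R default = y := by
    have h1 : Spec.map (CommRingCat.ofHom (IsLocalRing.residue R)) default = IsLocalRing.closedPoint R :=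
      IsLocalRing.PrimeSpectrum.comap_residue R _
    change (Spec.map (CommRingCat.ofHom (IsLocalRing.residue R)) ≫
      Spec.map (CommRingCat.ofHom (algebraMap A R)) ≫ Y.fromSpecStalk y) default = y
    rw [Scheme.Hom.comp_apply, Scheme.Hom.comp_apply, h1]
    refine (congrArg (Y.fromSpecStalk y) ?_).trans Y.fromSpecStalk_closedPoint
    exact IsLocalRing.comap_closedPoint (algebraMap A R)
  have := notMem_supp_of_isZero_stalk (Hens2.geomPt Y y R) ((@AddCommGrpCat.isZero_of_subsingleton _ h).of_iso e)
  rwa [hpt] at this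

end Groth.Agent.CdP50
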