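import Groth.Agent.CdP50.AllPrimes
/-!
Cohomological dimension from a bound on the transcendence degrees of the residue fields.
-/

set_option autoImplicit false
set_option backward.isDefEq.respectTransparency.types false
universe u
open CategoryTheory CategoryTheory.Limits AlgebraicGeometry Opposite TopologicalSpace
open IsLocalRing
namespace Groth.Agent.CdP50

theorem trdeg_residueField_lt (k A L : Type u) [Field k] [CommRing A] [IsLocalRing A] [Algebra k A] [Field L]
    [Algebra k L] (g : A →ₐ[k] L) (hg : ∃ a ∈ maximalIdeal A, g a ≠ 0) (hL : Algebra.trdeg k L < Cardinal.aleph0) :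
    Algebra.trdeg k (ResidueField A) < Algebra.trdeg k L := by
  classical
  obtain ⟨T, hT⟩ := exists_isTranscendenceBasis k (ResidueField A)
  choose a ha using fun t : T => residue_surjective (R := A) (t : ResidueField A)
  let ev : MvPolynomial T k →ₐ[k] A := MvPolynomial.aeval a
  have hev : ∀ p, residue A (ev p) = MvPolynomial.aeval (fun t : T => (t : ResidueField A)) p := fun p => by
    rw [show (fun t : T => (t : ResidueField A)) = fun t => IsScalarTower.toAlgHom k A (ResidueField A) (a t) from
      funext fun t => (ha t).symm, ← MvPolynomial.comp_aeval_apply]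
    rfl
  have hu : ∀ p : nonZeroDivisors (MvPolynomial T k), IsUnit (ev (p : MvPolynomial T k)) := fun p => by
    by_contra h
    have h0 := (residue_eq_zero_iff _).2 h
    rw [hev] at h0
    exact nonZeroDivisors.ne_zero p.2 (hT.1 (h0.trans (map_zero _).symm))
  let F := FractionRing (MvPolynomial T k)
  let ι : F →+* A := IsLocalization.lift (g := ev.toRingHom) hu
  let : Algebra F L := (g.toRingHom.comp ι).toAlgebra
  have : IsScalarTower k F L := IsScalarTower.of_algebraMap_eq fun c => by
    rw [IsScalarTower.algebraMap_apply k (MvPolynomial T k) F]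
    change _ = g (ι _)
    rw [IsLocalization.lift_eq]
    exact (g.commutes c).symm.trans (congrArg g (ev.commutes c).symm)
  obtain ⟨b, hb, hgb⟩ := hg
  have hne : Algebra.trdeg F L ≠ 0 := fun h0 => by
    have := trdeg_eq_zero_iff.1 h0
    have hi : IsIntegral F (g b) := Algebra.IsIntegral.isIntegral _
    let p := minpoly F (g b)
    obtain ⟨q, hq⟩ : ∃ q, p = Polynomial.X * q + Polynomial.C (p.coeff 0) := ⟨p.divX, (Polynomial.X_mul_divX_add p).symm⟩
    have h1 : (p.map ι).eval b = b * (q.map ι).eval b + ι (p.coeff 0) := by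
      conv_lhs => rw [hq]
      simp
    have h2 : g ((p.map ι).eval b) = 0 := by
      rw [Polynomial.eval_map]
      exact (Polynomial.hom_eval₂ p ι g.toRingHom b).trans (minpoly.aeval F (g b))
    have h3 : (p.map ι).eval b ∈ maximalIdeal A := fun hun => (hun.map g).ne_zero h2
    have h4 : ι (p.coeff 0) ∈ maximalIdeal A := by
      have := sub_mem h3 (Ideal.mul_mem_right ((q.map ι).eval b) _ hb)
      rwa [h1, add_sub_cancel_left] at this
    exact h4 ((isUnit_iff_ne_zero.2 (minpoly.coeff_zero_ne_zero hi hgb)).map ι)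
  have : Algebra.IsAlgebraic (MvPolynomial T k) F := IsLocalization.isAlgebraic F (nonZeroDivisors (MvPolynomial T k))
  have h1 := trdeg_add_eq k F (A := L)
  rw [← trdeg_add_eq k (MvPolynomial T k) (A := F), trdeg_eq_zero (R := MvPolynomial T k) (A := F), add_zero,
    MvPolynomial.trdeg_of_isDomain, Cardinal.lift_id, hT.cardinalMk_eq_trdeg] at h1
  obtain ⟨n, hn⟩ := Cardinal.lt_aleph0.1 hL
  rw [hn] at h1 ⊢
  obtain ⟨a', ha'⟩ := Cardinal.lt_aleph0.1 (lt_of_le_of_lt (h1 ▸ le_self_add) Cardinal.natCast_lt_aleph0 :
    Algebra.trdeg k (ResidueField A) < Cardinal.aleph0)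
  obtain ⟨b', hb'⟩ := Cardinal.lt_aleph0.1 (lt_of_le_of_lt (h1 ▸ le_add_self) Cardinal.natCast_lt_aleph0 :
    Algebra.trdeg F L < Cardinal.aleph0)
  rw [ha', hb'] at h1
  rw [hb'] at hne
  rw [ha']
  have : a' + b' = n := by exact_mod_cast h1
  have : b' ≠ 0 := fun h => hne (by rw [h, Nat.cast_zero])
  exact_mod_cast (show a' < n by omega)

variable {k : Type u} [Field k] {X : Scheme.{u}} (f : X ⟶ Spec (CommRingCat.of k))

/-- The cohomological dimension of a noetherian scheme over a field with residue fields of bounded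
transcendence degree. -/
theorem cohDimLEAt_of_tdeg_le [IsNoetherian X] {ℓ e n : ℕ} (hℓ : ℓ.Prime)
    (he : Dix.CohDimLEAt (Spec (CommRingCat.of k)) ℓ e) (hn : ∀ x, WC97.tdeg f x ≤ n) :
    Dix.CohDimLEAt X ℓ (2 * n + e) := by
  have hfin : ∀ x, WC97.tdeg f x = (WC97.tdegN f x : Cardinal.{u}) := fun x =>
    (Cardinal.cast_toNat_of_lt_aleph0 ((hn x).trans_lt Cardinal.natCast_lt_aleph0)).symm
  intro F hF q hq
  have key : ∀ (x y : X) (hxy : x ⤳ y), x ≠ y →
      ∀ (R : Type u) [CommRing R] [IsLocalRing R] [Algebra (X.presheaf.stalk y) R]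
      [IsLocalHom (algebraMap (X.presheaf.stalk y) R)] [Hensel.IsStrictHenselization (X.presheaf.stalk y) R],
      ∀ P ∈ ((RingHom.ker (Cyc.specMap y x hxy)).map (algebraMap (X.presheaf.stalk y) R)).minimalPrimes,
        ∃ d : ℕ, d + 1 + (e + 2 * WC97.tdegN f y) ≤ e + 2 * WC97.tdegN f x ∧
          Dix.CohDimLEAt (Spec (CommRingCat.of (FractionRing (R ⧸ P)))) ℓ d := by
    intro x y hxy hne R _ _ _ _ _ P hP
    have := hP.1.1
    let A := X.presheaf.stalk y
    let L := FractionRing (R ⧸ P)
    let ks : k →+* A := (Spec.preimage (X.fromSpecStalk y ≫ f)).hom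
    have hksSpec : Spec.map (CommRingCat.ofHom ks) = X.fromSpecStalk y ≫ f := Spec.map_preimage _
    have hky : WC97.kStr f y = (residue A).comp ks := by
      have : CommRingCat.ofHom (WC97.kStr f y) = CommRingCat.ofHom ks ≫ X.residue y := by
        apply Spec.map_injective
        rw [Spec.map_comp, WC97.kStr_spec, hksSpec]
        rfl
      exact congrArg CommRingCat.Hom.hom this
    have hkx : WC97.kStr f x = (Cyc.specMap y x hxy).comp ks := by
      have : CommRingCat.ofHom (WC97.kStr f x) = CommRingCat.ofHom ks ≫ CommRingCat.ofHom (Cyc.specMap y x hxy) := by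
        apply Spec.map_injective
        rw [Spec.map_comp, WC97.kStr_spec, hksSpec, ← Category.assoc]
        congr 1
        change _ = Spec.map (X.presheaf.stalkSpecializes hxy ≫ X.residue x) ≫ _
        rw [Spec.map_comp, Category.assoc, Scheme.SpecMap_stalkSpecializes_fromSpecStalk]
        rfl
      exact congrArg CommRingCat.Hom.hom this
    let : Algebra k A := ks.toAlgebra
    obtain ⟨E, _, _, _, i, hi, htr⟩ := exists_sepClosed_subfield k A R
    obtain ⟨_, halg, hj⟩ := exists_algebraic_frac hxy R P hP
    let θ : R →+* L := (algebraMap (R ⧸ P) L).comp (Ideal.Quotient.mk P)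
    let : Algebra E L := (θ.comp i).toAlgebra
    let : Algebra k (X.residueField x) := (WC97.kStr f x).toAlgebra
    let : Algebra k L := (θ.comp ((algebraMap A R).comp ks)).toAlgebra
    have : IsScalarTower k E L := IsScalarTower.of_algebraMap_eq fun c => (congrArg θ (hi c)).symm
    have : IsScalarTower k (X.residueField x) L := IsScalarTower.of_algebraMap_eq fun c =>
      ((congrArg (algebraMap (X.residueField x) L) (RingHom.congr_fun hkx c)).trans (hj (ks c))).symm
    have hx : Algebra.trdeg k (X.residueField x) = (WC97.tdegN f x : Cardinal.{u}) := hfin x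
    have hy : Algebra.trdeg k (ResidueField A) = (WC97.tdegN f y : Cardinal.{u}) := by
      refine Eq.trans ?_ (hfin y)
      unfold WC97.tdeg
      rw [hky]
      rfl
    have h1 := trdeg_add_eq k E (A := L)
    have h2 := trdeg_add_eq k (X.residueField x) (A := L)
    rw [htr, hy] at h1
    rw [hx, trdeg_eq_zero (R := X.residueField x) (A := L), add_zero] at h2
    rw [← h2] at h1
    obtain ⟨m, hm⟩ := Cardinal.lt_aleph0.1 (lt_of_le_of_lt (h1 ▸ le_add_self) Cardinal.natCast_lt_aleph0 :
      Algebra.trdeg E L < Cardinal.aleph0)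
    have hlt : WC97.tdegN f y < WC97.tdegN f x := by
      let g : A →ₐ[k] X.residueField x :=
        { Cyc.specMap y x hxy with commutes' := fun c => (RingHom.congr_fun hkx c).symm }
      have hg : ∃ a ∈ maximalIdeal A, g a ≠ 0 := by
        by_contra hcon
        push Not at hcon
        have : RingHom.ker (Cyc.specMap y x hxy) = maximalIdeal A :=
          le_antisymm (le_maximalIdeal (RingHom.ker_ne_top _)) fun a ha => hcon a ha
        refine hne ((Cyc90.genPrime_eq_iff hxy (specializes_refl y)).1 (PrimeSpectrum.ext ?_))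
        change Ideal.comap (X.presheaf.stalkSpecializes hxy).hom (maximalIdeal _) =
          Ideal.comap (X.presheaf.stalkSpecializes (specializes_refl y)).hom (maximalIdeal _)
        rw [TopCat.Presheaf.stalkSpecializes_refl]
        refine Eq.trans ?_ this
        rw [← IsLocalRing.ker_residue (R := X.presheaf.stalk x), RingHom.comap_ker]
        rfl
      have := trdeg_residueField_lt k A (X.residueField x) g hg (hx ▸ Cardinal.natCast_lt_aleph0)
      rw [hx, hy] at this
      exact_mod_cast this
    rw [hm] at h1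
    have h1' : WC97.tdegN f y + m = WC97.tdegN f x := by exact_mod_cast h1
    refine ⟨m, by omega, ?_⟩
    simpa using cohDimLEAt_of_trdeg hℓ m E (cohDimLEAt_sepClosed E ℓ) L hm.le
  refine subsingleton_H_of_dimFun (fun x => e + 2 * WC97.tdegN f x) (fun x => ?_) key hℓ q F
    (isLTorsion_of_primary hℓ hF) (fun x _ => ?_) q le_rfl
  · let : Algebra k (X.residueField x) := (WC97.kStr f x).toAlgebra
    have h := cohDimLEAt_of_trdeg hℓ (WC97.tdegN f x) k he (X.residueField x) (hfin x).le
    exact fun G hG b hb => h G hG b (by omega)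
  · have h : WC97.tdegN f x ≤ n := by exact_mod_cast (hfin x ▸ hn x)
    omega

end Groth.Agent.CdP50
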