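import Groth.Agent.CdP50.OverField
import Groth.Agent.GalCoh84.BrauerTrivial
import Groth.Agent.S0229
import Mathlib.FieldTheory.PurelyInseparable.PerfectClosure
import Mathlib.RingTheory.AlgebraicIndependent.TranscendenceBasis
/-!
Cohomological dimension of fields grows at most by the transcendence degree.
-/

set_option autoImplicit false
set_option backward.isDefEq.respectTransparency.types false
universe u
open CategoryTheory CategoryTheory.Limits AlgebraicGeometry Opposite TopologicalSpace CategoryTheory.Abelian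
open Groth.Agent.Unr55.EtSh Groth.Agent.EtCore45
open scoped TensorProduct
namespace Groth.Agent.CdP50

theorem universallyInjective_of_purelyInseparable (k : Type u) (K : Type u) [Field k] [Field K] [Algebra k K]
    [IsPurelyInseparable k K] : UniversallyInjective (Spec.map (CommRingCat.ofHom (algebraMap k K))) := by
  refine (List.TFAE.out (tfae_universallyInjective (Spec.map (CommRingCat.ofHom (algebraMap k K)))) 1 0).1 ?_
  intro L _ g₁ g₂ h
  obtain ⟨φ₁, rfl⟩ := Spec.map_surjective g₁
  obtain ⟨φ₂, rfl⟩ := Spec.map_surjective g₂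
  simp only [← Spec.map_comp] at h
  congr 1
  exact CommRingCat.hom_ext (IsPurelyInseparable.injective_comp_algebraMap k K L
    (congrArg CommRingCat.Hom.hom (Spec.map_injective h)))

theorem cohDimLEAt_of_purelyInseparable {ℓ d : ℕ} (hℓ : ℓ.Prime) {k : Type u} [Field k] (K : Type u) [Field K]
    [Algebra k K] [IsPurelyInseparable k K] (h : Dix.CohDimLEAt (Spec (CommRingCat.of K)) ℓ d) :
    Dix.CohDimLEAt (Spec (CommRingCat.of k)) ℓ d := fun F hF q hq => by
  let f := Spec.map (CommRingCat.ofHom (algebraMap k K))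
  have : IsIntegralHom f := IsIntegralHom.SpecMap_iff.2 (algebraMap_isIntegral_iff.2 inferInstance)
  have : UniversallyInjective f := universallyInjective_of_purelyInseparable k K
  have : Surjective f := ⟨fun x => ⟨(⊥ : PrimeSpectrum K), Subsingleton.elim (α := PrimeSpectrum k) _ _⟩⟩
  have := preservesFiniteLimits_pull f
  have h1 := h _ (primary_of_isLTorsion (Depth22.isLTorsion_pull f (isLTorsion_of_primary hℓ hF))) q hq
  exact (Hpull_bijective_uh f F q).1.subsingleton

theorem isTorsion_of_primary {X : Scheme.{u}} {ℓ : ℕ} (hℓ : ℓ.Prime) {F : EtCoh.Ab X}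
    (hF : Dix.IsPrimaryTorsion ℓ F) : EtCoh.IsTorsion F := fun U s x => by
  obtain ⟨V, g, ⟨v, hv⟩, k, hk⟩ := hF U s x
  exact ⟨V, g, ⟨v, hv⟩, isOfFinAddOrder_iff_nsmul_eq_zero.2 ⟨ℓ ^ k, pow_pos hℓ.pos k, hk⟩⟩

/-- A field of transcendence degree at most one over an algebraically closed field. -/
theorem cohDimLEAt_one_of_isAlgClosed {ℓ : ℕ} (hℓ : ℓ.Prime) (k : Type u) [Field k] [IsAlgClosed k] (K : Type u)
    [Field K] [Algebra k K] (h : Algebra.trdeg k K ≤ 1) : Dix.CohDimLEAt (Spec (CommRingCat.of K)) ℓ 1 := by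
  rcases Cardinal.le_one_iff.1 h with h0 | h0
  · have : Algebra.IsAlgebraic k K := trdeg_eq_zero_iff.1 h0
    have := IsAlgClosed.of_ringEquiv k K
      (RingEquiv.ofBijective (algebraMap k K) (IsAlgClosed.algebraMap_bijective_of_isIntegral))
    exact fun F hF q hq => (cohDimLEAt_sepClosed K ℓ) F hF q (by omega)
  · intro F hF q hq
    refine subsingleton_of_forall_eq 0 fun x => GalCoh84.torsion_vanish K (fun K' _ _ _ D _ _ _ _ => ?_) F
      (isTorsion_of_primary hℓ hF) q hq x
    let : Algebra k K' := ((algebraMap K K').comp (algebraMap k K)).toAlgebra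
    have : IsScalarTower k K K' := IsScalarTower.of_algebraMap_eq fun _ => rfl
    refine Groth.Agent.S0214.result K' (fun n d f hf hd hn => ?_) D
    obtain ⟨a, ha, h⟩ := C1Norm84.isCi_one (k := k) K' (C1Norm84.trdeg_of_algebraic (k := k) (K := K) h0) 1 n
      (fun _ => f) (fun _ => d) (fun _ => hf) (fun _ => hd) (by simpa using hn)
    exact ⟨a, ha, h 0⟩

/-- A field of transcendence degree at most one over a separably closed field. -/
theorem cohDimLEAt_one_of_isSepClosed {ℓ : ℕ} (hℓ : ℓ.Prime) (k : Type u) [Field k] [IsSepClosed k] (K : Type u)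
    [Field K] [Algebra k K] (h : Algebra.trdeg k K ≤ 1) : Dix.CohDimLEAt (Spec (CommRingCat.of K)) ℓ 1 := by
  let KA := AlgebraicClosure K
  let K' := perfectClosure K KA
  let C := algebraicClosure k KA
  have hC : IsAlgClosed C := (algebraicClosure.isAlgClosure k KA).isAlgClosed
  have : IsPurelyInseparable k C := inferInstance
  have hle : ∀ c : C, (c : KA) ∈ K' := fun c => by
    have : ExpChar k (ringExpChar k) := ringExpChar.of_eq rfl
    have : ExpChar K (ringExpChar k) := expChar_of_injective_algebraMap (algebraMap k K).injective _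
    obtain ⟨n, y, hy⟩ := IsPurelyInseparable.pow_mem k (ringExpChar k) c
    refine (mem_perfectClosure_iff_pow_mem (ringExpChar k)).2 ⟨n, algebraMap k K y, ?_⟩
    rw [← IsScalarTower.algebraMap_apply]
    exact congrArg Subtype.val hy
  let i : C →+* K' :=
    { toFun := fun c => ⟨c, hle c⟩
      map_one' := rfl
      map_mul' := fun _ _ => rfl
      map_zero' := rfl
      map_add' := fun _ _ => rfl }
  let : Algebra C K' := i.toAlgebra
  have : IsScalarTower k C K' := IsScalarTower.of_algebraMap_eq fun a => rfl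
  refine cohDimLEAt_of_purelyInseparable hℓ K' (cohDimLEAt_one_of_isAlgClosed hℓ C K' ?_)
  have h1 := lift_trdeg_add_eq k K K'
  have h2 := lift_trdeg_add_eq k C K'
  simp only [Cardinal.lift_id] at h1 h2
  rw [trdeg_eq_zero (R := K) (A := K'), add_zero] at h1
  rw [trdeg_eq_zero (R := k) (A := C), zero_add] at h2
  rw [h2, ← h1]
  exact h

/-- Cohomological dimension rises by at most one in a field generated by one element. -/
theorem cohDimLEAt_fractionRing_polynomial {ℓ d : ℕ} (hℓ : ℓ.Prime) (K : Type u) [Field K]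
    (h : Dix.CohDimLEAt (Spec (CommRingCat.of K)) ℓ d) (L : Type u) [Field L] [Algebra K L]
    [Algebra (Polynomial K) L] [IsScalarTower K (Polynomial K) L] [IsFractionRing (Polynomial K) L] :
    Dix.CohDimLEAt (Spec (CommRingCat.of L)) ℓ (d + 1) := by
  let f := Spec.map (CommRingCat.ofHom (algebraMap K L))
  refine cohDimLEAt_over_field hℓ f h fun Ω _ _ g hg => ?_
  obtain ⟨ψ, rfl⟩ := Spec.map_surjective g
  let aΩ : Algebra K Ω := ψ.hom.toAlgebra
  have hint : ψ.hom.IsIntegral := IsIntegralHom.SpecMap_iff.1 hg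
  have hΩ : Algebra.IsIntegral K Ω := ⟨hint⟩
  let : Algebra (Ω ⊗[K] Polynomial K) (Ω ⊗[K] L) :=
    (Algebra.TensorProduct.map (AlgHom.id K Ω) (IsScalarTower.toAlgHom K _ _)).toAlgebra
  have : IsScalarTower Ω (Ω ⊗[K] Polynomial K) (Ω ⊗[K] L) :=
    IsScalarTower.of_algebraMap_eq (R := Ω) (S := Ω ⊗[K] Polynomial K) (A := Ω ⊗[K] L) fun z => by rw [RingHom.algebraMap_toAlgebra]; simp [Algebra.TensorProduct.algebraMap_apply]
  have hloc := IsLocalization.tensorProduct_tensorProduct_right K Ω (nonZeroDivisors (Polynomial K)) L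
    (RingHom.ext fun _ => rfl)
  let P := (polyEquivTensor' K Ω).symm
  have : IsDomain (Ω ⊗[K] Polynomial K) := P.toMulEquiv.isDomain (Polynomial Ω)
  have hdom : IsDomain (Ω ⊗[K] L) := by
    refine IsLocalization.isDomain_of_le_nonZeroDivisors _ (M := (nonZeroDivisors (Polynomial K)).map
      (Algebra.TensorProduct.includeRight (R := K) (A := Ω))) ?_
    rintro _ ⟨p, hp, rfl⟩
    exact mem_nonZeroDivisors_of_ne_zero ((map_ne_zero_iff _
      (Algebra.TensorProduct.includeRight_injective (algebraMap K Ω).injective)).2 (nonZeroDivisors.ne_zero hp))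
  have hfield : IsField (Ω ⊗[K] L) :=
    Algebra.TensorProduct.isField_of_isAlgebraic K Ω L (Or.inl inferInstance)
  let : Field (Ω ⊗[K] L) := hfield.toField
  have htr : Algebra.trdeg Ω (Ω ⊗[K] L) ≤ 1 := by
    let : Algebra L (Ω ⊗[K] L) := Algebra.TensorProduct.rightAlgebra
    have : Algebra.IsAlgebraic L (Ω ⊗[K] L) := by
      have : Algebra.IsIntegral L (Ω ⊗[K] L) := ⟨fun z => by
        induction z using TensorProduct.induction_on with
        | zero => exact isIntegral_zero
        | add a b ha hb => exact ha.add hb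
        | tmul a b =>
          have h1 : IsIntegral L ((Algebra.TensorProduct.includeLeft (R := K) (S := K) (B := L)) a) :=
            ((Algebra.IsIntegral.isIntegral (R := K) a).map _).tower_top
          have h2 : IsIntegral L (algebraMap L (Ω ⊗[K] L) b) := isIntegral_algebraMap
          have := h1.mul h2
          rwa [Algebra.TensorProduct.includeLeft_apply, Algebra.TensorProduct.right_algebraMap_apply,
            Algebra.TensorProduct.tmul_mul_tmul, mul_one, one_mul] at this⟩
      infer_instance
    have h1 := lift_trdeg_add_eq K Ω (Ω ⊗[K] L)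
    have h2 := lift_trdeg_add_eq K L (Ω ⊗[K] L)
    have h3 := lift_trdeg_add_eq K (Polynomial K) L
    have : Algebra.IsAlgebraic (Polynomial K) L := IsLocalization.isAlgebraic L (nonZeroDivisors (Polynomial K))
    simp only [Cardinal.lift_id] at h1 h2 h3
    rw [trdeg_eq_zero (R := K) (A := Ω), zero_add] at h1
    rw [trdeg_eq_zero (R := L) (A := Ω ⊗[K] L), add_zero] at h2
    rw [trdeg_eq_zero (R := Polynomial K) (A := L), add_zero, Polynomial.trdeg_of_isDomain] at h3
    rw [h1, ← h2, ← h3]
  exact cohDimLEAt_of_iso ((pullbackSymmetry _ _ ≪≫ pullbackSpecIso K Ω L).inv) hℓ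
    (cohDimLEAt_one_of_isSepClosed hℓ Ω (Ω ⊗[K] L) htr)

/-- Cohomological dimension grows at most by the transcendence degree. -/
theorem cohDimLEAt_of_trdeg {ℓ : ℕ} (hℓ : ℓ.Prime) : ∀ (t : ℕ) {d : ℕ} (K : Type u) [Field K],
    Dix.CohDimLEAt (Spec (CommRingCat.of K)) ℓ d → ∀ (L : Type u) [Field L] [Algebra K L],
    Algebra.trdeg K L ≤ t → Dix.CohDimLEAt (Spec (CommRingCat.of L)) ℓ (d + t)
  | 0, d, K, _, h, L, _, _, ht => by
    have : Algebra.IsAlgebraic K L := trdeg_eq_zero_iff.1 (nonpos_iff_eq_zero.1 (by simpa using ht))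
    exact cohDimLEAt_of_algebraic hℓ L h
  | t + 1, d, K, _, h, L, _, _, ht => by
    by_cases halg : Algebra.IsAlgebraic K L
    · exact fun F hF q hq => (cohDimLEAt_of_algebraic hℓ L h) F hF q (by omega)
    obtain ⟨x, hx⟩ : ∃ x : L, Transcendental K x := by
      simpa [Algebra.isAlgebraic_def, Transcendental] using halg
    have hinj : Function.Injective (Polynomial.aeval (R := K) x) := transcendental_iff_injective.1 hx
    let M := FractionRing (Polynomial K)
    let j : M →ₐ[K] L := IsFractionRing.liftAlgHom hinj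
    let : Algebra M L := j.toRingHom.toAlgebra
    have : IsScalarTower K M L := IsScalarTower.of_algebraMap_eq fun a => (j.commutes a).symm
    have h1 := lift_trdeg_add_eq K (Polynomial K) M
    have h2 := lift_trdeg_add_eq K M L
    have : Algebra.IsAlgebraic (Polynomial K) M := IsLocalization.isAlgebraic M (nonZeroDivisors (Polynomial K))
    simp only [Cardinal.lift_id] at h1 h2
    rw [trdeg_eq_zero (R := Polynomial K) (A := M), add_zero, Polynomial.trdeg_of_isDomain] at h1
    rw [← h1, ← (show 1 + Algebra.trdeg M L = _ from (add_comm _ _).trans ((add_comm _ _).trans rfl))] at h2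
    have h3 : Algebra.trdeg M L ≤ t := by
      have h4 : 1 + Algebra.trdeg M L ≤ 1 + (t : Cardinal) := by
        rw [h2]; exact ht.trans (by rw [Nat.cast_add, Nat.cast_one, add_comm])
      exact (Cardinal.add_le_add_iff_of_lt_aleph0 Cardinal.one_lt_aleph0).1 (by simpa [add_comm] using h4)
    have := cohDimLEAt_of_trdeg hℓ t M (cohDimLEAt_fractionRing_polynomial hℓ K h M) L h3
    rwa [show d + (t + 1) = d + 1 + t by omega]

end Groth.Agent.CdP50
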